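import Groth.Agent.SplitTorLib.Basic
import Groth.Agent.S16611

/-!
# Existence of maximal split subtori
-/

set_option autoImplicit false
set_option linter.style.haveILetI false

universe u

open CategoryTheory CategoryTheory.Limits MonoidalCategory CartesianMonoidalCategory AlgebraicGeometry
open scoped MonObj

namespace Groth.Agent.SplitTorLib

theorem sandwich {C : Type*} [Category C] [CartesianMonoidalCategory C] {A A' B B' : C} [GrpObj A] [GrpObj A']
    [GrpObj B] [GrpObj B'] (e₁ : Grp.mk A ≅ Grp.mk A') (e : Grp.mk B ≅ Grp.mk B') (g : A ⟶ B) (hm : Mono g)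
    (hh : IsMonHom g) : ∃ φ : A' ⟶ B', Mono φ ∧ IsMonHom φ := by
  let a : A' ⟶ A := e₁.inv.hom.hom
  let b : B ⟶ B' := e.hom.hom.hom
  haveI : IsIso a := ((Grp.forget _).mapIso e₁).isIso_inv
  haveI : IsIso b := ((Grp.forget _).mapIso e).isIso_hom
  haveI : IsMonHom a := e₁.inv.hom.isMonHom_hom
  haveI : IsMonHom b := e.hom.hom.isMonHom_hom
  haveI := hm
  haveI := hh
  exact ⟨a ≫ g ≫ b, mono_comp _ _, inferInstance⟩

theorem isSplit_bc {S U : Scheme.{u}} (t : U ⟶ S) {M : Type} [AddCommGroup M] {T : Over S} [GrpObj T]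
    (h : Red.IsSplitTorusWith M T) : Red.IsSplitTorusWith M (Red.bc t T) := by
  obtain ⟨e⟩ := h
  obtain ⟨e₁⟩ := GrpSchLib.MultTypeBC.bc_iso t e
  obtain ⟨e₂⟩ := GrpSchLib.MultTypeBC.bc_DS t M
  exact ⟨e₁ ≪≫ e₂⟩

theorem isTorus_of_split {S : Scheme.{u}} {r : ℕ} {T : Over S} [GrpObj T]
    (h : Red.IsSplitTorusWith (Fin r → ℤ) T) : Red.IsTorus T := by
  refine ⟨S, 𝟙 S, inferInstance, inferInstance, fun V hV => ⟨V, hV.isCompact, by simp⟩, fun s => ⟨⊤, trivial, r, ?_⟩⟩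
  exact isSplit_bc _ h

/-- The rank of a split subtorus of a group of finite multiplicative type is bounded. -/
theorem exists_rank_bound {S : Scheme.{u}} [Nonempty S] {G : Over S} [GrpObj G] (hG : SGA3x.IsMultTypeFT G) :
    ∃ N : ℕ, ∀ (T : Over S) [GrpObj T] (j : T ⟶ G) [IsMonHom j] [Mono j] (r : ℕ),
      Red.IsSplitTorusWith (Fin r → ℤ) T → r ≤ N := by
  classical
  obtain ⟨S', f, -, hsurj, -, hloc⟩ := hG
  obtain ⟨x⟩ := ‹Nonempty S›
  obtain ⟨s', -⟩ := f.surjective x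
  obtain ⟨U, hsU, M, iM, hfg, ⟨e⟩⟩ := hloc s'
  haveI : Nonempty (U : Scheme.{u}) := ⟨(⟨s', hsU⟩ : U)⟩
  obtain ⟨gs, hgs, hfin⟩ := AddGroup.fg_iff.mp hfg
  let gen : Fin hfin.toFinset.card → M := fun i => (hfin.toFinset.equivFin.symm i : M)
  have hgen : AddSubgroup.closure (Set.range gen) = ⊤ := by
    rw [← hgs]
    congr 1
    ext m
    constructor
    · rintro ⟨i, rfl⟩
      exact hfin.mem_toFinset.mp (hfin.toFinset.equivFin.symm i).2
    · intro hm
      exact ⟨hfin.toFinset.equivFin ⟨m, hfin.mem_toFinset.mpr hm⟩, by simp [gen]⟩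
  refine ⟨hfin.toFinset.card, fun T _ j _ _ r hT => ?_⟩
  obtain ⟨e₁⟩ := isSplit_bc (U.ι ≫ f) hT
  let bj : Red.bc (U.ι ≫ f) T ⟶ Red.bc (U.ι ≫ f) G := (Over.pullback (U.ι ≫ f)).map j
  haveI : Mono bj := inferInstanceAs (Mono ((Over.pullback (U.ι ≫ f)).map j))
  haveI : IsMonHom bj := inferInstanceAs (IsMonHom ((Over.pullback (U.ι ≫ f)).map j))
  obtain ⟨φ, hφm, hφh⟩ := sandwich e₁ e bj inferInstance inferInstance
  haveI := hφm
  haveI := hφh
  exact rank_le_of_mono gen hgen φ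

/-- The split torus of rank zero has at most one point. -/
theorem subsingleton_hom_zero {S : Scheme.{u}} (X : Over S) :
    Subsingleton (X ⟶ Red.DS S (Fin 0 → ℤ)) := by
  refine ⟨fun a b => Over.OverMorphism.ext (Scheme.Cover.hom_ext X.left.affineCover _ _ fun i => ?_)⟩
  obtain ⟨B, hB⟩ : ∃ B : CommRingCat.{u}, X.left.affineCover.X i = Spec B := ⟨_, rfl⟩
  obtain ⟨iota, hiota⟩ : ∃ iota : Spec B ⟶ X.left, X.left.affineCover.f i = eqToHom hB ≫ iota :=
    ⟨eqToHom hB.symm ≫ X.left.affineCover.f i, by simp⟩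
  rw [hiota, Category.assoc, Category.assoc]
  congr 1
  let x : DSPtsLib.spU (iota ≫ X.hom) ⟶ X := Over.homMk iota rfl
  obtain ⟨f, hf⟩ := DSPtsLib.exists_eq_pt (iota ≫ X.hom) (x ≫ a)
  obtain ⟨g, hg⟩ := DSPtsLib.exists_eq_pt (iota ≫ X.hom) (x ≫ b)
  have : f = g := ringHom_ext' fun m => by
    rw [show m = 1 from Subsingleton.elim _ _, ← MonoidAlgebra.one_def, map_one, map_one]
  exact congrArg CommaMorphism.left (hf.trans ((congrArg (DSPtsLib.pt (iota ≫ X.hom)) this).trans hg.symm))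

/-- A group of finite multiplicative type has a maximal split subtorus. -/
theorem exists_maximal {S : Scheme.{u}} {G : Over S} [GrpObj G] (hG : SGA3x.IsMultTypeFT G) :
    ∃ (T : Over S) (_ : GrpObj T) (j : T ⟶ G) (r : ℕ), IsMonHom j ∧ Mono j ∧ Red.IsSplitTorusWith (Fin r → ℤ) T ∧
      ∀ (T' : Over S) [GrpObj T'] (j' : T' ⟶ G) [IsMonHom j'] [Mono j'] (r' : ℕ) (g : T ⟶ T'),
        Red.IsSplitTorusWith (Fin r' → ℤ) T' → g ≫ j' = j → IsIso g := by
  classical
  let P : ℕ → Prop := fun r => ∃ (T : Over S) (_ : GrpObj T) (j : T ⟶ G), IsMonHom j ∧ Mono j ∧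
    Red.IsSplitTorusWith (Fin r → ℤ) T
  have h0 : P 0 := by
    refine ⟨Red.DS S (Fin 0 → ℤ), inferInstance, toUnit _ ≫ η[G], inferInstance,
      ⟨fun a b _ => (subsingleton_hom_zero _).elim a b⟩, ⟨Iso.refl _⟩⟩
  rcases isEmpty_or_nonempty S with hS | hS
  · obtain ⟨T, iT, j, hj, hjm, hT⟩ := h0
    refine ⟨T, iT, j, 0, hj, hjm, hT, fun T' _ j' _ _ r' g _ _ => ?_⟩
    haveI : IsEmpty T'.left := Function.isEmpty T'.hom
    haveI : IsIso g.left := inferInstance
    haveI : IsIso ((Over.forget _).map g) := ‹IsIso g.left›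
    exact isIso_of_reflects_iso g (Over.forget _)
  obtain ⟨N, hN⟩ := exists_rank_bound hG
  obtain ⟨T, iT, j, hj, hjm, hT⟩ := Nat.findGreatest_spec (P := P) (Nat.zero_le N) h0
  refine ⟨T, iT, j, _, hj, hjm, hT, fun T' _ j' _ _ r' g hT' hg => ?_⟩
  subst hg
  haveI := hj
  haveI := hjm
  haveI : Mono g := mono_of_mono g j'
  haveI : IsMonHom g :=
    { one_hom := by rw [← cancel_mono j', Category.assoc, IsMonHom.one_hom, IsMonHom.one_hom]
      mul_hom := by
        rw [← cancel_mono j', Category.assoc, IsMonHom.mul_hom, Category.assoc, IsMonHom.mul_hom,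
          ← Category.assoc, MonoidalCategory.tensorHom_comp_tensorHom] }
  have h1 : r' ≤ Nat.findGreatest P N :=
    Nat.le_findGreatest (hN T' j' r' hT') ⟨T', inferInstance, j', inferInstance, inferInstance, hT'⟩
  have h2 : Nat.findGreatest P N ≤ r' := by
    obtain ⟨e⟩ := hT'
    obtain ⟨x⟩ := hS
    obtain ⟨e₁⟩ := hT
    obtain ⟨φ, hφm, hφh⟩ := sandwich e₁ e g inferInstance inferInstance
    haveI := hφm
    haveI := hφh
    haveI : Nonempty S := ⟨x⟩
    refine rank_le_of_mono (n := r') (fun i => (Pi.single i (1 : ℤ) : Fin r' → ℤ)) ?_ φ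
    refine eq_top_iff.mpr fun m _ => ?_
    rw [← Finset.univ_sum_single m]
    refine sum_mem fun i _ => ?_
    rw [show (Pi.single i (m i) : Fin r' → ℤ) = m i • Pi.single i (1 : ℤ) by
      rw [← Pi.single_smul, smul_eq_mul, mul_one]]
    exact AddSubgroup.zsmul_mem _ (AddSubgroup.subset_closure (Set.mem_range_self i)) _
  have hr : r' = Nat.findGreatest P N := le_antisymm h1 h2
  subst hr
  exact S16611.result (isTorus_of_split hT) (isTorus_of_split hT') g fun s =>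
    ⟨_, isSplit_bc _ hT, isSplit_bc _ hT'⟩

end Groth.Agent.SplitTorLib
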