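import Groth.Agent.SplitTorLib.Pieces
import Groth.Agent.SplitTorLib.Max
import Groth.Agent.GrpSchLib.MultTypeComm

/-!
# Images of split tori in groups of multiplicative type over a connected base; the greatest split subtorus
-/

set_option autoImplicit false
set_option linter.style.haveILetI false

universe u

open CategoryTheory CategoryTheory.Limits MonoidalCategory CartesianMonoidalCategory AlgebraicGeometry
open scoped MonObj
open Groth.Agent.DSPtsLib

namespace Groth.Agent.SplitTorLib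

variable {S : Scheme.{u}} {G : Over S} [GrpObj G]

theorem descend {A B : Over S} [GrpObj A] [GrpObj B] (p : A ⟶ B) (hp : IsMonHom p) [Flat p.left] [Surjective p.left]
    [QuasiCompact p.left] (φ : A ⟶ G) (hφ : IsMonHom φ)
    (hker : ∀ (Y : Over S) (x : Y ⟶ A), x ≫ φ = 1 ↔ x ≫ p = 1) :
    ∃ j : B ⟶ G, IsMonHom j ∧ Mono j ∧ p ≫ j = φ := by
  haveI := hp
  haveI := hφ
  have hcov : FpqcDescLib.Covers p.left :=
    FpqcDescLib.covers_of_isCovering (FpqcDescLib.isCovering_of_quasiCompact _)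
  haveI := hcov.over_epi
  obtain ⟨j, hj, -⟩ := hcov.over_desc φ fun T a b e => by
    have h : (a * b⁻¹) ≫ φ = 1 := (hker T _).mpr (by rw [MonObj.mul_comp, GrpObj.inv_comp, e, mul_inv_cancel])
    rw [MonObj.mul_comp, GrpObj.inv_comp] at h
    exact mul_inv_eq_one.mp h
  have hjh : IsMonHom j := by
    haveI : Epi (p ⊗ₘ p) := (covers_tensorHom p).over_epi
    refine ⟨by rw [← IsMonHom.one_hom p, Category.assoc, hj, IsMonHom.one_hom], ?_⟩
    rw [← cancel_epi (p ⊗ₘ p), ← Category.assoc, ← IsMonHom.mul_hom p, Category.assoc, hj, ← Category.assoc,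
      MonoidalCategory.tensorHom_comp_tensorHom, hj, IsMonHom.mul_hom φ]
  refine ⟨j, hjh, ?_, hj⟩
  haveI := hjh
  refine ⟨fun {Y} a b e => ?_⟩
  have h1 : (a * b⁻¹) ≫ j = 1 := by rw [MonObj.mul_comp, GrpObj.inv_comp, e, mul_inv_cancel]
  refine mul_inv_eq_one.mp ?_
  generalize a * b⁻¹ = y at h1 ⊢
  let P : Over S := Over.mk (pullback.fst y.left p.left ≫ Y.hom)
  let q : P ⟶ Y := Over.homMk (pullback.fst y.left p.left) rfl
  let x : P ⟶ A := Over.homMk (pullback.snd y.left p.left) (by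
    show pullback.snd y.left p.left ≫ A.hom = pullback.fst y.left p.left ≫ Y.hom
    rw [← Over.w p, ← Category.assoc, ← pullback.condition, Category.assoc]
    exact congrArg (_ ≫ ·) (Over.w y))
  have hxy : q ≫ y = x ≫ p := Over.OverMorphism.ext pullback.condition
  have hq : FpqcDescLib.Covers q.left :=
    hcov.pullback y.left q.left x.left (IsPullback.of_hasPullback y.left p.left)
  haveI := hq.over_epi
  have hx : x ≫ φ = 1 := by rw [← hj, ← Category.assoc, ← hxy, Category.assoc, h1, MonObj.comp_one]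
  rw [← cancel_epi q, hxy, (hker P x).mp hx, MonObj.comp_one]

theorem exists_image [ConnectedSpace S] {a : ℕ} (φ : Red.DS S (Fin a → ℤ) ⟶ G) (hφ : IsMonHom φ)
    (hG : SGA3x.IsMultTypeFT G) :
    ∃ (r : ℕ) (inc : (Fin r → ℤ) →+ (Fin a → ℤ)) (j : Red.DS S (Fin r → ℤ) ⟶ G), IsMonHom j ∧ Mono j ∧
      Red.DSmap S inc ≫ j = φ := by
  haveI := hφ
  obtain ⟨r, inc, hinc, hk⟩ := exists_ker_eq φ (exists_pieces φ hG)
  obtain ⟨h1, h2, h3⟩ := flat_surjective_qc_DSmap S inc hinc
  obtain ⟨j, hj⟩ := descend (G := G) (Red.DSmap S inc) (S5427.isMonHom_DSmap S inc) φ hφ hk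
  exact ⟨r, inc, j, hj⟩

theorem DSmap_comp (S : Scheme.{u}) {M N L : Type} [AddCommGroup M] [AddCommGroup N] [AddCommGroup L] (f : M →+ N)
    (g : N →+ L) : Red.DSmap S g ≫ Red.DSmap S f = Red.DSmap S (g.comp f) := by
  refine Over.OverMorphism.ext (Scheme.Cover.hom_ext (Red.DS S L).left.affineCover _ _ fun i => ?_)
  obtain ⟨B, hB⟩ : ∃ B : CommRingCat.{u}, (Red.DS S L).left.affineCover.X i = Spec B := ⟨_, rfl⟩
  obtain ⟨io, hio⟩ : ∃ io : Spec B ⟶ (Red.DS S L).left, (Red.DS S L).left.affineCover.f i = eqToHom hB ≫ io :=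
    ⟨eqToHom hB.symm ≫ (Red.DS S L).left.affineCover.f i, by simp⟩
  rw [hio, Category.assoc, Category.assoc]
  congr 1
  let x : spU (io ≫ (Red.DS S L).hom) ⟶ Red.DS S L := Over.homMk io rfl
  obtain ⟨c, hc⟩ := exists_eq_pt _ x
  have h : x ≫ Red.DSmap S g ≫ Red.DSmap S f = x ≫ Red.DSmap S (g.comp f) := by
    rw [hc, ← Category.assoc, pt_DSmap, pt_DSmap, pt_DSmap]
    refine congrArg (pt _) (ringHom_ext' fun m => ?_)
    show chr _ m = chr _ m
    rw [chr_pull, chr_pull, chr_pull]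
    rfl
  exact congrArg CommaMorphism.left h

theorem DSmap_id_zero (S : Scheme.{u}) (M N : Type) [AddCommGroup M] [AddCommGroup N] :
    Red.DSmap S (AddMonoidHom.id M) = 𝟙 _ ∧ Red.DSmap S (0 : N →+ M) = 1 := by
  constructor
  all_goals
    refine Over.OverMorphism.ext (Scheme.Cover.hom_ext (Red.DS S M).left.affineCover _ _ fun i => ?_)
    obtain ⟨B, hB⟩ : ∃ B : CommRingCat.{u}, (Red.DS S M).left.affineCover.X i = Spec B := ⟨_, rfl⟩
    obtain ⟨io, hio⟩ : ∃ io : Spec B ⟶ (Red.DS S M).left, (Red.DS S M).left.affineCover.f i = eqToHom hB ≫ io :=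
      ⟨eqToHom hB.symm ≫ (Red.DS S M).left.affineCover.f i, by simp⟩
    rw [hio, Category.assoc, Category.assoc]
    congr 1
    let x : spU (io ≫ (Red.DS S M).hom) ⟶ Red.DS S M := Over.homMk io rfl
    obtain ⟨c, hc⟩ := exists_eq_pt _ x
  · have h : x ≫ Red.DSmap S (AddMonoidHom.id M) = x ≫ 𝟙 _ := by
      rw [hc, pt_DSmap, Category.comp_id]
      refine congrArg (pt _) (ringHom_ext' fun m => ?_)
      show chr _ m = chr _ m
      rw [chr_pull]
      rfl
    exact congrArg CommaMorphism.left h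
  · have h : x ≫ Red.DSmap S (0 : N →+ M) = x ≫ 1 := by
      rw [hc, pt_DSmap, MonObj.comp_one, pt_eq_one_iff]
      intro m
      rw [chr_pull]
      exact chr_one _
    exact congrArg CommaMorphism.left h

/-- Over a connected base there is a greatest split subtorus. -/
theorem exists_greatest [ConnectedSpace S] (hG : SGA3x.IsMultTypeFT G) :
    ∃ (T : Over S) (_ : GrpObj T) (j : T ⟶ G) (r : ℕ), IsMonHom j ∧ Mono j ∧ Red.IsSplitTorusWith (Fin r → ℤ) T ∧
      ∀ (T' : Over S) [GrpObj T'] (j' : T' ⟶ G) [IsMonHom j'] [Mono j'] (r' : ℕ),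
        Red.IsSplitTorusWith (Fin r' → ℤ) T' → ∃ g : T' ⟶ T, g ≫ j = j' := by
  classical
  haveI : IsCommMonObj G := ⟨by
    have := GrpSchLib.MultTypeComm.points_comm hG (snd G G) (fst G G)
    rw [Hom.mul_def, Hom.mul_def] at this
    rw [CartesianMonoidalCategory.lift_fst_snd, Category.id_comp] at this
    refine Eq.trans ?_ this
    congr 1⟩
  obtain ⟨T, iT, j, r, hj, hjm, ⟨e⟩, hmax⟩ := exists_maximal hG
  refine ⟨T, iT, j, r, hj, hjm, ⟨e⟩, fun T' _ j' _ _ r' hT' => ?_⟩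
  obtain ⟨e'⟩ := hT'
  haveI := hj
  haveI := hjm
  haveI := e.inv.hom.isMonHom_hom
  haveI := e'.inv.hom.isMonHom_hom
  haveI := e.hom.hom.isMonHom_hom
  haveI := e'.hom.hom.isMonHom_hom
  let inl : (Fin r → ℤ) →+ (Fin (r + r') → ℤ) :=
    (LinearMap.funLeft ℤ ℤ (finSumFinEquiv (m := r) (n := r')).symm).toAddMonoidHom.comp
      { toFun := fun v => Sum.elim v 0, map_zero' := funext fun i => by cases i <;> rfl,
        map_add' := fun v w => funext fun i => by cases i <;> simp }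
  let inr : (Fin r' → ℤ) →+ (Fin (r + r') → ℤ) :=
    (LinearMap.funLeft ℤ ℤ (finSumFinEquiv (m := r) (n := r')).symm).toAddMonoidHom.comp
      { toFun := fun v => Sum.elim 0 v, map_zero' := funext fun i => by cases i <;> rfl,
        map_add' := fun v w => funext fun i => by cases i <;> simp }
  let prl : (Fin (r + r') → ℤ) →+ (Fin r → ℤ) :=
    (LinearMap.funLeft ℤ ℤ (Fin.castAdd (m := r') (n := r))).toAddMonoidHom
  let prr : (Fin (r + r') → ℤ) →+ (Fin r' → ℤ) :=
    (LinearMap.funLeft ℤ ℤ (Fin.natAdd (m := r') r)).toAddMonoidHom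
  have hll : prl.comp inl = AddMonoidHom.id _ :=
    AddMonoidHom.ext fun v => funext fun i => by simp [prl, inl, LinearMap.funLeft]
  have hrl : prl.comp inr = 0 :=
    AddMonoidHom.ext fun v => funext fun i => by simp [prl, inr, LinearMap.funLeft]
  have hlr : prr.comp inl = 0 :=
    AddMonoidHom.ext fun v => funext fun i => by simp [prr, inl, LinearMap.funLeft]
  have hrr : prr.comp inr = AddMonoidHom.id _ :=
    AddMonoidHom.ext fun v => funext fun i => by simp [prr, inr, LinearMap.funLeft]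
  haveI := S5427.isMonHom_DSmap S inl
  haveI := S5427.isMonHom_DSmap S inr
  let φ₁ := Red.DSmap S inl ≫ e.inv.hom.hom ≫ j
  let φ₂ := Red.DSmap S inr ≫ e'.inv.hom.hom ≫ j'
  have hφ₁ : IsMonHom φ₁ := inferInstance
  have hφ₂ : IsMonHom φ₂ := inferInstance
  obtain ⟨r'', inc, j'', hj'', hj''m, hfac⟩ := exists_image (φ₁ * φ₂) (by haveI := hφ₁; haveI := hφ₂; rw [Hom.mul_def]; infer_instance) hG
  haveI := hj''
  haveI := hj''m
  have l1 : Red.DSmap S prl ≫ φ₁ = e.inv.hom.hom ≫ j := by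
    rw [← Category.assoc, DSmap_comp, hll, (DSmap_id_zero S _ (Fin r → ℤ)).1, Category.id_comp]
  have l2 : Red.DSmap S prl ≫ φ₂ = 1 := by
    rw [← Category.assoc, DSmap_comp, hrl, (DSmap_id_zero S _ (Fin r' → ℤ)).2, MonObj.one_comp]
  have r1 : Red.DSmap S prr ≫ φ₁ = 1 := by
    rw [← Category.assoc, DSmap_comp, hlr, (DSmap_id_zero S _ (Fin r → ℤ)).2, MonObj.one_comp]
  have r2 : Red.DSmap S prr ≫ φ₂ = e'.inv.hom.hom ≫ j' := by
    rw [← Category.assoc, DSmap_comp, hrr, (DSmap_id_zero S _ (Fin r' → ℤ)).1, Category.id_comp]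
  have heh : e.hom.hom.hom ≫ e.inv.hom.hom = 𝟙 T := congrArg (fun h => h.hom.hom) e.hom_inv_id
  have heh' : e'.hom.hom.hom ≫ e'.inv.hom.hom = 𝟙 T' := congrArg (fun h => h.hom.hom) e'.hom_inv_id
  let g₀ : T ⟶ Red.DS S (Fin r'' → ℤ) := e.hom.hom.hom ≫ Red.DSmap S prl ≫ Red.DSmap S inc
  have hg₀ : g₀ ≫ j'' = j := by
    simp only [g₀, Category.assoc]
    rw [hfac, MonObj.comp_mul, l1, l2, mul_one, ← Category.assoc, heh, Category.id_comp]
  haveI : IsIso g₀ := hmax _ j'' r'' g₀ ⟨Iso.refl _⟩ hg₀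
  refine ⟨(e'.hom.hom.hom ≫ Red.DSmap S prr ≫ Red.DSmap S inc) ≫ inv g₀, ?_⟩
  rw [Category.assoc, ← hg₀, IsIso.inv_hom_id_assoc]
  simp only [Category.assoc]
  rw [hfac, MonObj.comp_mul, r1, r2, one_mul, ← Category.assoc, heh', Category.id_comp]

end Groth.Agent.SplitTorLib
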