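import Groth.Agent.SplitTorLib.Image

/-!
# Quotients of split tori by subgroups of multiplicative type
-/

set_option autoImplicit false
set_option linter.style.haveILetI false

universe u

open CategoryTheory CategoryTheory.Limits MonoidalCategory CartesianMonoidalCategory AlgebraicGeometry
open scoped MonObj
open Groth.Agent.DSPtsLib
open Groth.Agent.GrpSchLib.DiagActionRigid (sp spm)
open Groth.Agent.GrpSchLib.HomMonoLocus (Inj)

namespace Groth.Agent.SplitTorLib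

theorem kernel_of_quotient {S : Scheme.{u}} {T H Q : Over S} [GrpObj T] [GrpObj H] [GrpObj Q] (i : H ⟶ T) [IsMonHom i]
    (q : T ⟶ Q) [IsMonHom q] (hq : RedSub.IsQuotient i q) {Y : Over S} (x : Y ⟶ T) :
    x ≫ q = 1 ↔ ∃ y, y ≫ i = x := by
  have hsq := hq.2.2.2
  have e : (T ◁ i) ≫ μ[T] = fst T H * (snd T H ≫ i) := by
    rw [Hom.mul_def]; congr 1
  constructor
  · intro h
    obtain ⟨w, h1, h2⟩ : ∃ w, w ≫ fst T H = (1 : Y ⟶ T) ∧ w ≫ ((T ◁ i) ≫ μ[T]) = x :=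
      ⟨_, hsq.lift_fst _ _ (by rw [h, MonObj.one_comp]), hsq.lift_snd (1 : Y ⟶ T) x (by rw [h, MonObj.one_comp])⟩
    rw [e, MonObj.comp_mul, h1, one_mul] at h2
    exact ⟨w ≫ snd T H, by rw [Category.assoc]; exact h2⟩
  · rintro ⟨y, rfl⟩
    have h : lift (1 : Y ⟶ T) y ≫ fst T H ≫ q = lift (1 : Y ⟶ T) y ≫ ((T ◁ i) ≫ μ[T]) ≫ q :=
      congrArg (lift (1 : Y ⟶ T) y ≫ ·) hsq.w
    rw [← Category.assoc, lift_fst, MonObj.one_comp, e, ← Category.assoc, MonObj.comp_mul, lift_fst, lift_snd_assoc,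
      one_mul] at h
    exact h.symm

theorem phi_near_surjective {S : Scheme.{u}} {H T : Over S} [GrpObj H] [GrpObj T] (i : H ⟶ T) (hih : IsMonHom i)
    (him : Mono i) {R : Type u} [CommRing R] {β : Spec (CommRingCat.of R) ⟶ S} {MH N : Type} [AddCommGroup MH]
    [AddCommGroup N] [AddGroup.FG N]
    (χH : ∀ (T₁ : Type u) [CommRing T₁] [Algebra R T₁], (CoordM.{u} MH →+* T₁) → (sp β T₁ ⟶ H))
    (hHnat : ∀ {T₁ T₂ : Type u} [CommRing T₁] [Algebra R T₁] [CommRing T₂] [Algebra R T₂] (φ : T₁ →ₐ[R] T₂)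
      (c : CoordM.{u} MH →+* T₁), spm β φ ≫ χH T₁ c = χH T₂ (φ.toRingHom.comp c))
    (hHmul : ∀ {T₁ : Type u} [CommRing T₁] [Algebra R T₁] (c c' d : CoordM.{u} MH →+* T₁),
      (∀ m, d (MonoidAlgebra.single m 1) = c (MonoidAlgebra.single m 1) * c' (MonoidAlgebra.single m 1)) →
        χH T₁ c * χH T₁ c' = χH T₁ d)
    (hHbij : ∀ (T₁ : Type u) [CommRing T₁] [Algebra R T₁], Function.Bijective (χH T₁))
    (χT : ∀ (T₁ : Type u) [CommRing T₁] [Algebra R T₁], (CoordM.{u} N →+* T₁) → (sp β T₁ ⟶ T))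
    (hTnat : ∀ {T₁ T₂ : Type u} [CommRing T₁] [Algebra R T₁] [CommRing T₂] [Algebra R T₂] (φ : T₁ →ₐ[R] T₂)
      (c : CoordM.{u} N →+* T₁), spm β φ ≫ χT T₁ c = χT T₂ (φ.toRingHom.comp c))
    (hTmul : ∀ {T₁ : Type u} [CommRing T₁] [Algebra R T₁] (c c' d : CoordM.{u} N →+* T₁),
      (∀ m, d (MonoidAlgebra.single m 1) = c (MonoidAlgebra.single m 1) * c' (MonoidAlgebra.single m 1)) →
        χT T₁ c * χT T₁ c' = χT T₁ d)
    (hTbij : ∀ (T₁ : Type u) [CommRing T₁] [Algebra R T₁], Function.Bijective (χT T₁))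
    (p : PrimeSpectrum R) :
    ∃ d : R, d ∉ p.asIdeal ∧ ∃ ψ : N →+ MH, Function.Surjective ψ ∧
      ∀ (T₁ : Type u) [CommRing T₁] [Algebra R T₁], IsUnit (algebraMap R T₁ d) →
        ∀ c : CoordM.{u} MH →+* T₁, χH T₁ c ≫ i = χT T₁ (GrpSchLib.SubgroupFactor.pull ψ c) := by
  haveI := hih
  haveI := him
  haveI : p.asIdeal.IsPrime := p.isPrime
  obtain ⟨d, hd, ψ, hψ⟩ := GrpSchLib.HomSplitLocal.exists_phi_near i χH hHnat hHmul χT hTnat hTmul hTbij p.asIdeal
  have hpd : p ∈ Set.range (PrimeSpectrum.comap (algebraMap R (Localization.Away d))) := by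
    rw [PrimeSpectrum.localization_away_comap_range (Localization.Away d) d]
    exact hd
  obtain ⟨p', hp'⟩ := hpd
  haveI : Nontrivial (Localization.Away d) := PrimeSpectrum.nontrivial p'
  have hinj : Inj i (Spec.map (CommRingCat.ofHom (algebraMap R (Localization.Away d))) ≫ β) :=
    fun Y _ x hx => by rw [← cancel_mono i, hx, MonObj.one_comp]
  have ht := GrpSchLib.HomSplitLocus.tests (u := i) (d := d) (φ := ψ) hHnat hHmul hHbij hTnat hTmul hTbij hψ
    (Localization.Away d) (IsLocalization.Away.algebraMap_isUnit d)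
  exact ⟨d, hd, ψ, ht.2.2.2 inferInstance hinj, hψ⟩

theorem exists_pieces_quot {S : Scheme.{u}} {r : ℕ} {H Q : Over S} [GrpObj H] [GrpObj Q]
    (i : H ⟶ Red.DS S (Fin r → ℤ)) [IsMonHom i] [Mono i] (hH : SGA3x.IsMultTypeFT H)
    (q : Red.DS S (Fin r → ℤ) ⟶ Q) [IsMonHom q] (hq : RedSub.IsQuotient i q) : HasPieces q := by
  obtain ⟨SQ, f, hflat, hsurj, hqc, hloc⟩ := hH
  haveI := hflat
  refine ⟨SQ, f, fun E hE => GrpSchLib.HomUnitLocus.isOpen_of_preimage f hqc hE, hsurj,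
    FpqcDescLib.covers_of_hcov f ⟨SQ, f, 𝟙 _, Category.id_comp _, hsurj, hflat, hqc⟩, fun z => ?_⟩
  obtain ⟨U, hzU, MH, iMH, hfg, ⟨e⟩⟩ := hloc z
  obtain ⟨W, hW, hzW, hWle⟩ := exists_isAffineOpen_mem_and_subset (show z ∈ U from hzU)
  have hr : Set.range hW.fromSpec ⊆ Set.range U.ι := by
    rw [Scheme.Opens.range_ι, hW.range_fromSpec]
    exact hWle
  obtain ⟨χH, hHnat, hHmul, hHbij⟩ := GrpSchLib.SubgroupFactor.exists_char (β := hW.fromSpec ≫ f) (U.ι ≫ f) e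
    (IsOpenImmersion.lift U.ι hW.fromSpec hr) (IsOpenImmersion.lift_fac_assoc _ _ hr _)
  rw [← SetLike.mem_coe, ← hW.range_fromSpec] at hzW
  obtain ⟨p, hp⟩ := hzW
  haveI : p.asIdeal.IsPrime := p.isPrime
  let R := Γ(SQ, W)
  let N := Fin r → ℤ
  let χT : ∀ (T : Type u) [CommRing T] [Algebra R T], (CoordM.{u} N →+* T) → (sp (hW.fromSpec ≫ f) T ⟶ Red.DS S N) :=
    fun T _ _ c => pt (Spec.map (CommRingCat.ofHom (algebraMap R T)) ≫ hW.fromSpec ≫ f) c
  have hTnat : ∀ {T₁ T₂ : Type u} [CommRing T₁] [Algebra R T₁] [CommRing T₂] [Algebra R T₂] (ρ : T₁ →ₐ[R] T₂)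
      (c : CoordM.{u} N →+* T₁), spm (hW.fromSpec ≫ f) ρ ≫ χT T₁ c = χT T₂ (ρ.toRingHom.comp c) := by
    intro T₁ T₂ _ _ _ _ ρ c
    refine pt_comp _ c ρ.toRingHom _ ?_
  have hTmul : ∀ {T₁ : Type u} [CommRing T₁] [Algebra R T₁] (c c' d : CoordM.{u} N →+* T₁),
      (∀ m, d (MonoidAlgebra.single m 1) = c (MonoidAlgebra.single m 1) * c' (MonoidAlgebra.single m 1)) →
        χT T₁ c * χT T₁ c' = χT T₁ d := fun c c' d h => pt_mul _ c c' d h
  have hTbij : ∀ (T₁ : Type u) [CommRing T₁] [Algebra R T₁], Function.Bijective (χT T₁) := fun T₁ _ _ =>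
    ⟨pt_injective' _, fun x => by obtain ⟨c, hc⟩ := exists_eq_pt _ x; exact ⟨c, hc.symm⟩⟩
  haveI : AddGroup.FG N := Module.Finite.iff_addGroup_fg.mp inferInstance
  obtain ⟨d, hd, ψ, hψs, hψ⟩ := phi_near_surjective i ‹IsMonHom i› ‹Mono i› χH hHnat hHmul hHbij χT hTnat hTmul hTbij p
  have hpd : p ∈ Set.range (PrimeSpectrum.comap (algebraMap R (Localization.Away d))) := by
    rw [PrimeSpectrum.localization_away_comap_range (Localization.Away d) d]
    exact hd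
  obtain ⟨p', hp'⟩ := hpd
  refine ⟨Localization.Away d, inferInstance,
    Spec.map (CommRingCat.ofHom (algebraMap R (Localization.Away d))) ≫ hW.fromSpec, inferInstance,
    ⟨p', ?_⟩, ψ.ker, ?_⟩
  · rw [Scheme.Hom.comp_apply, ← hp, ← hp']
    rfl
  intro T _ _ c
  letI : Algebra R T := ((algebraMap (Localization.Away d) T).comp (algebraMap R (Localization.Away d))).toAlgebra
  have hu : IsUnit (algebraMap R T d) := (IsLocalization.Away.algebraMap_isUnit d).map (algebraMap (Localization.Away d) T)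
  have hbase : Spec.map (CommRingCat.ofHom (algebraMap (Localization.Away d) T)) ≫
      (Spec.map (CommRingCat.ofHom (algebraMap R (Localization.Away d))) ≫ hW.fromSpec) ≫ f =
      Spec.map (CommRingCat.ofHom (algebraMap R T)) ≫ hW.fromSpec ≫ f := by
    rw [Category.assoc, ← Spec.map_comp_assoc]
    rfl
  rw [hbase, kernel_of_quotient i q hq]
  constructor
  · rintro ⟨y, hy⟩ m hm
    obtain ⟨c', rfl⟩ := (hHbij T).2 y
    rw [hψ T hu c'] at hy
    rw [← pt_injective' _ hy, chr_pull]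
    show chr c' (Multiplicative.ofAdd (ψ m)) = 1
    rw [(show ψ m = 0 from hm)]
    exact chr_one c'
  · intro h
    obtain ⟨s, hs⟩ := hψs.hasRightInverse
    have key : ∀ n n' : N, ψ n = ψ n' → chr c (Multiplicative.ofAdd n) = chr c (Multiplicative.ofAdd n') := by
      intro n n' e
      rw [show n = (n - n') + n' by abel, ofAdd_add, chr_mul, h _ (show ψ (n - n') = 0 by rw [map_sub, e, sub_self]),
        _root_.one_mul]
    obtain ⟨c', hc'⟩ := exists_hom_of_char (M := MH) (B := T)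
      { toFun := fun m => chr c (Multiplicative.ofAdd (s (Multiplicative.toAdd m)))
        map_one' := (key _ 0 (by rw [hs, map_zero]; rfl)).trans (chr_one c)
        map_mul' := fun m m' => by
          rw [← chr_mul, ← ofAdd_add]
          exact key _ _ (by rw [map_add, hs, hs, hs, toAdd_mul]) }
    refine ⟨χH T c', ?_⟩
    rw [hψ T hu c']
    refine congrArg (pt _) (ringHom_ext' fun n => ?_)
    show chr _ n = chr c n
    rw [chr_pull, hc']
    exact key _ _ (hs _)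

theorem isSplit_of_ker_eq {S : Scheme.{u}} {r : ℕ} {H Q : Over S} [GrpObj H] [GrpObj Q]
    (i : H ⟶ Red.DS S (Fin r → ℤ))
    (q : Red.DS S (Fin r → ℤ) ⟶ Q) [hqh : IsMonHom q] (hq : RedSub.IsQuotient i q) {r' : ℕ}
    (inc : (Fin r' → ℤ) →+ (Fin r → ℤ)) (hinc : Function.Injective inc)
    (hk : ∀ (Y : Over S) (x : Y ⟶ Red.DS S (Fin r → ℤ)), x ≫ q = 1 ↔ x ≫ Red.DSmap S inc = 1) :
    r' ≤ r ∧ Red.IsSplitTorusWith (Fin r' → ℤ) Q := by
  obtain ⟨h1, h2, h3⟩ := flat_surjective_qc_DSmap S inc hinc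
  obtain ⟨j, hj, hjm, hjq⟩ := descend (G := Q) (Red.DSmap S inc) (S5427.isMonHom_DSmap S inc) q hqh hk
  haveI := hq.1; haveI := hq.2.1; haveI := hq.2.2.1
  obtain ⟨Z, rr, hZ⟩ := FpqcDescLib.covers_of_isCovering (FpqcDescLib.isCovering_of_lfp q.left)
  have hcj : FpqcDescLib.Covers j.left := ⟨Z, rr ≫ (Red.DSmap S inc).left, by
    rw [Category.assoc, ← Over.comp_left, hjq]; exact hZ⟩
  haveI := hcj.over_epi
  obtain ⟨g, hg, -⟩ := hcj.over_desc (𝟙 _) fun Y a b e => by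
    haveI := hjm
    rw [Category.comp_id, Category.comp_id]
    exact (cancel_mono j).mp e
  refine ⟨?_, ⟨?_⟩⟩
  · have := LinearMap.finrank_le_finrank_of_injective (f := inc.toIntLinearMap) hinc
    simpa using this
  · haveI := hj
    let e : Red.DS S (Fin r' → ℤ) ≅ Q :=
      ⟨j, g, hg, by rw [← cancel_epi j, reassoc_of% hg, Category.comp_id]⟩
    haveI : IsMonHom e.hom := hj
    exact (Grp.mkIso e (IsMonHom.one_hom e.hom) (IsMonHom.mul_hom e.hom)).symm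

theorem nonempty_iso_of_quotient {S : Scheme.{u}} [ConnectedSpace S] {r : ℕ} {H Q : Over S} [GrpObj H] [GrpObj Q]
    (i : H ⟶ Red.DS S (Fin r → ℤ)) [IsMonHom i] [Mono i] (hH : SGA3x.IsMultTypeFT H)
    (q : Red.DS S (Fin r → ℤ) ⟶ Q) [IsMonHom q] (hq : RedSub.IsQuotient i q) :
    ∃ r' : ℕ, r' ≤ r ∧ Red.IsSplitTorusWith (Fin r' → ℤ) Q := by
  obtain ⟨r', inc, hinc, hk⟩ := exists_ker_eq q (exists_pieces_quot i hH q hq)
  exact ⟨r', isSplit_of_ker_eq i q hq inc hinc hk⟩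

end Groth.Agent.SplitTorLib
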