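import Groth.Agent.SplitTorLib.DSHom

/-!
# Kernels of homomorphisms out of a split group over a connected base are cut out by one lattice

For a homomorphism `φ : D(N) ⟶ G` into a group of finite multiplicative type, the characters trivial on the kernel form
locally a constant subgroup, hence a constant one over a connected base.
-/

set_option autoImplicit false
set_option linter.style.haveILetI false

universe u

open CategoryTheory CategoryTheory.Limits MonoidalCategory CartesianMonoidalCategory AlgebraicGeometry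
open scoped MonObj TensorProduct
open Groth.Agent.DSPtsLib
open Groth.Agent.GrpSchLib.DiagActionRigid (sp spm)

namespace Groth.Agent.SplitTorLib

variable {S : Scheme.{u}} {N : Type} [AddCommGroup N] {G : Over S} [GrpObj G]

/-- The kernel of `φ` on points over `T` is cut out by the characters in `L`. -/
def CutBy (φ : Red.DS S N ⟶ G) {R : Type u} [CommRing R] (β : Spec (CommRingCat.of R) ⟶ S) (L : AddSubgroup N) : Prop :=
  ∀ (T : Type u) [CommRing T] [Algebra R T] (c : CoordM.{u} N →+* T),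
    pt (Spec.map (CommRingCat.ofHom (algebraMap R T)) ≫ β) c ≫ φ = 1 ↔
      ∀ m ∈ L, chr c (Multiplicative.ofAdd m) = 1

theorem exists_pieces (φ : Red.DS S N ⟶ G) [IsMonHom φ] (hG : SGA3x.IsMultTypeFT G) :
    ∃ (P : Scheme.{u}) (f : P ⟶ S), (∀ E : Set S, IsOpen (f ⁻¹' E) → IsOpen E) ∧ Surjective f ∧
      FpqcDescLib.Covers f ∧ ∀ z : P, ∃ (R : Type u) (_ : CommRing R) (j : Spec (CommRingCat.of R) ⟶ P),
        IsOpenImmersion j ∧ z ∈ Set.range j ∧ ∃ L : AddSubgroup N, CutBy φ (j ≫ f) L := by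
  obtain ⟨SQ, f, hflat, hsurj, hqc, hloc⟩ := hG
  haveI := hflat
  refine ⟨SQ, f, fun E hE => GrpSchLib.HomUnitLocus.isOpen_of_preimage f hqc hE, hsurj,
    FpqcDescLib.covers_of_hcov f ⟨SQ, f, 𝟙 _, Category.id_comp _, hsurj, hflat, hqc⟩, fun z => ?_⟩
  obtain ⟨U, hzU, MQ, iMQ, hfg, ⟨e⟩⟩ := hloc z
  obtain ⟨W, hW, hzW, hWle⟩ := exists_isAffineOpen_mem_and_subset (show z ∈ U from hzU)
  have hr : Set.range hW.fromSpec ⊆ Set.range U.ι := by
    rw [Scheme.Opens.range_ι, hW.range_fromSpec]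
    exact hWle
  obtain ⟨χQ, hQnat, hQmul, hQbij⟩ := GrpSchLib.SubgroupFactor.exists_char (β := hW.fromSpec ≫ f) (U.ι ≫ f) e
    (IsOpenImmersion.lift U.ι hW.fromSpec hr) (IsOpenImmersion.lift_fac_assoc _ _ hr _)
  rw [← SetLike.mem_coe, ← hW.range_fromSpec] at hzW
  obtain ⟨p, hp⟩ := hzW
  haveI : p.asIdeal.IsPrime := p.isPrime
  let R := Γ(SQ, W)
  let χH : ∀ (T : Type u) [CommRing T] [Algebra R T], (CoordM.{u} N →+* T) → (sp (hW.fromSpec ≫ f) T ⟶ Red.DS S N) :=
    fun T _ _ c => pt (Spec.map (CommRingCat.ofHom (algebraMap R T)) ≫ hW.fromSpec ≫ f) c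
  have hHnat : ∀ {T₁ T₂ : Type u} [CommRing T₁] [Algebra R T₁] [CommRing T₂] [Algebra R T₂] (ρ : T₁ →ₐ[R] T₂)
      (c : CoordM.{u} N →+* T₁), spm (hW.fromSpec ≫ f) ρ ≫ χH T₁ c = χH T₂ (ρ.toRingHom.comp c) := by
    intro T₁ T₂ _ _ _ _ ρ c
    refine pt_comp _ c ρ.toRingHom _ ?_
    try exact ρ.comp_algebraMap
  have hHmul : ∀ {T₁ : Type u} [CommRing T₁] [Algebra R T₁] (c c' d : CoordM.{u} N →+* T₁),
      (∀ m, d (MonoidAlgebra.single m 1) = c (MonoidAlgebra.single m 1) * c' (MonoidAlgebra.single m 1)) →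
        χH T₁ c * χH T₁ c' = χH T₁ d := fun c c' d h => pt_mul _ c c' d h
  obtain ⟨d, hd, ψ, hψ⟩ := GrpSchLib.HomSplitLocal.exists_phi_near φ χH hHnat hHmul χQ hQnat hQmul hQbij p.asIdeal
  have hpd : p ∈ Set.range (PrimeSpectrum.comap (algebraMap R (Localization.Away d))) := by
    rw [PrimeSpectrum.localization_away_comap_range (Localization.Away d) d]
    exact hd
  obtain ⟨p', hp'⟩ := hpd
  refine ⟨Localization.Away d, inferInstance,
    Spec.map (CommRingCat.ofHom (algebraMap R (Localization.Away d))) ≫ hW.fromSpec, inferInstance,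
    ⟨p', ?_⟩, ψ.range, ?_⟩
  · rw [Scheme.Hom.comp_apply, ← hp, ← hp']
    rfl
  intro T _ _ c
  letI : Algebra R T := ((algebraMap (Localization.Away d) T).comp (algebraMap R (Localization.Away d))).toAlgebra
  have hu : IsUnit (algebraMap R T d) := (IsLocalization.Away.algebraMap_isUnit d).map (algebraMap (Localization.Away d) T)
  have hbase : Spec.map (CommRingCat.ofHom (algebraMap (Localization.Away d) T)) ≫
      (Spec.map (CommRingCat.ofHom (algebraMap R (Localization.Away d))) ≫ hW.fromSpec) ≫ f =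
      Spec.map (CommRingCat.ofHom (algebraMap R T)) ≫ hW.fromSpec ≫ f := by
    rw [Category.assoc, ← Spec.map_comp_assoc]
    rfl
  rw [hbase]
  show χH T c ≫ φ = 1 ↔ _
  rw [hψ T hu c]
  constructor
  · intro h m hm
    obtain ⟨n, rfl⟩ := hm
    have := GrpSchLib.HomSplitLocus.eq_one_of_chi hQmul hQbij h (Multiplicative.ofAdd n)
    rw [GrpSchLib.SubgroupFactor.pull_single] at this
    exact this
  · intro h
    refine GrpSchLib.HomSplitLocus.chi_one hQmul _ fun n => ?_
    rw [GrpSchLib.SubgroupFactor.pull_single]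
    exact h _ ⟨Multiplicative.toAdd n, rfl⟩

/-- A covering by pieces on each of which the kernel is cut out by a subgroup of characters. -/
def HasPieces (φ : Red.DS S N ⟶ G) : Prop :=
  ∃ (P : Scheme.{u}) (f : P ⟶ S), (∀ E : Set S, IsOpen (f ⁻¹' E) → IsOpen E) ∧ Surjective f ∧
    FpqcDescLib.Covers f ∧ ∀ z : P, ∃ (R : Type u) (_ : CommRing R) (j : Spec (CommRingCat.of R) ⟶ P),
      IsOpenImmersion j ∧ z ∈ Set.range j ∧ ∃ L : AddSubgroup N, CutBy φ (j ≫ f) L

/-- The character `m` is trivial on the kernel of `φ` over the points above `s`. -/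
def Triv (φ : Red.DS S N ⟶ G) (m : N) (s : S) : Prop :=
  ∀ (K : Type u) [Field K] (B : Type u) [CommRing B] [Algebra K B] (l : Spec (CommRingCat.of K) ⟶ S),
    l (IsLocalRing.closedPoint K) = s → ∀ c : CoordM.{u} N →+* B,
      pt (Spec.map (CommRingCat.ofHom (algebraMap K B)) ≫ l) c ≫ φ = 1 → chr c (Multiplicative.ofAdd m) = 1

theorem triv_iff (φ : Red.DS S N ⟶ G) {R : Type u} [CommRing R] (β : Spec (CommRingCat.of R) ⟶ S) {L : AddSubgroup N}
    (hL : CutBy φ β L) (p : Spec (CommRingCat.of R)) (m : N) : Triv φ m (β p) ↔ m ∈ L := by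
  classical
  haveI : p.asIdeal.IsPrime := p.isPrime
  let k := p.asIdeal.ResidueField
  have hpt : (Spec.map (CommRingCat.ofHom (algebraMap R k)) ≫ β) (IsLocalRing.closedPoint k) = β p := by
    rw [Scheme.Hom.comp_apply]
    refine congrArg (fun x => β x) (PrimeSpectrum.ext ?_)
    show Ideal.comap (algebraMap R k) (IsLocalRing.maximalIdeal k) = p.asIdeal
    rw [IsLocalRing.maximalIdeal_eq_bot, ← RingHom.ker_eq_comap_bot, Ideal.ker_algebraMap_residueField]
  constructor
  · intro h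
    let C := Multiplicative N ⧸ AddSubgroup.toSubgroup L
    let T := MonoidAlgebra k C
    letI : Algebra R T := ((algebraMap k T).comp (algebraMap R k)).toAlgebra
    obtain ⟨c, hc⟩ := exists_hom_of_char (B := T) ((MonoidAlgebra.of k C).comp (QuotientGroup.mk' _))
    have h1 : pt (Spec.map (CommRingCat.ofHom (algebraMap R T)) ≫ β) c ≫ φ = 1 := by
      refine (hL T c).mpr fun n hn => ?_
      rw [hc]
      show MonoidAlgebra.of k C (QuotientGroup.mk _) = 1
      rw [(QuotientGroup.eq_one_iff _).mpr hn, map_one]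
    have hbase : Spec.map (CommRingCat.ofHom (algebraMap R T)) ≫ β =
        Spec.map (CommRingCat.ofHom (algebraMap k T)) ≫ Spec.map (CommRingCat.ofHom (algebraMap R k)) ≫ β := by
      rw [← Spec.map_comp_assoc]
      rfl
    rw [hbase] at h1
    have h2 := h k T (Spec.map (CommRingCat.ofHom (algebraMap R k)) ≫ β) hpt c h1
    rw [hc] at h2
    exact (QuotientGroup.eq_one_iff (Multiplicative.ofAdd m)).mp
      (MonoidAlgebra.of_injective (R := k) (h2.trans (map_one (MonoidAlgebra.of k C)).symm))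
  · intro hm K _ B _ _ l hl c hc
    obtain ⟨w, -, -⟩ := Scheme.Pullback.exists_preimage_pullback (f := l)
      (g := Spec.map (CommRingCat.ofHom (algebraMap R k)) ≫ β) (IsLocalRing.closedPoint K) (IsLocalRing.closedPoint k)
      (hl.trans hpt.symm)
    let W := Limits.pullback l (Spec.map (CommRingCat.ofHom (algebraMap R k)) ≫ β)
    obtain ⟨K', _, ρ, hρ⟩ : ∃ (K' : Type u) (_ : Field K') (ρ : Spec (CommRingCat.of K') ⟶ W), True :=
      ⟨W.residueField w, inferInstance, W.fromSpecResidueField w, trivial⟩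
    obtain ⟨σ, hσ⟩ : ∃ σ, Spec.map σ = ρ ≫ pullback.fst _ _ := ⟨_, Spec.map_preimage _⟩
    obtain ⟨τ, hτ⟩ : ∃ τ, Spec.map τ = ρ ≫ pullback.snd _ _ := ⟨_, Spec.map_preimage _⟩
    letI : Algebra K K' := σ.hom.toAlgebra
    letI : Algebra R (B ⊗[K] K') :=
      ((Algebra.TensorProduct.includeRight (R := K) (A := B) (B := K')).toRingHom.comp
        (τ.hom.comp (algebraMap R k))).toAlgebra
    let inl : B →+* B ⊗[K] K' := Algebra.TensorProduct.includeLeftRingHom
    have hbase : Spec.map (CommRingCat.ofHom inl) ≫ Spec.map (CommRingCat.ofHom (algebraMap K B)) ≫ l =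
        Spec.map (CommRingCat.ofHom (algebraMap R (B ⊗[K] K'))) ≫ β := by
      have e1 : CommRingCat.ofHom (algebraMap K B) ≫ CommRingCat.ofHom inl =
          CommRingCat.ofHom σ.hom ≫ CommRingCat.ofHom
            (Algebra.TensorProduct.includeRight (R := K) (A := B) (B := K')).toRingHom := by
        ext x
        exact (Algebra.TensorProduct.includeLeft (R := K) (S := K) (A := B) (B := K')).commutes x |>.trans
          ((Algebra.TensorProduct.includeRight (R := K) (A := B) (B := K')).commutes x).symm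
      rw [← Spec.map_comp_assoc, e1, Spec.map_comp_assoc, CommRingCat.ofHom_hom, hσ, Category.assoc,
        pullback.condition, ← reassoc_of% hτ, ← Spec.map_comp_assoc, ← Spec.map_comp_assoc]
      rfl
    have h1 : pt (Spec.map (CommRingCat.ofHom (algebraMap R (B ⊗[K] K'))) ≫ β) (inl.comp c) ≫ φ = 1 := by
      rw [← pt_comp (Spec.map (CommRingCat.ofHom (algebraMap K B)) ≫ l) c inl _ hbase, Category.assoc, hc,
        MonObj.comp_one]
    have h2 := (hL _ _).mp h1 m hm
    exact Algebra.TensorProduct.includeLeft_injective (R := K) (S := K) (A := B) (B := K')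
      (algebraMap K K').injective (h2.trans (map_one inl).symm)

/-- Over a connected base the kernel of `φ` is cut out by one subgroup of characters on every piece. -/
theorem exists_lattice [ConnectedSpace S] (φ : Red.DS S N ⟶ G) (hφ : HasPieces φ) :
    ∃ (L : AddSubgroup N) (P : Scheme.{u}) (f : P ⟶ S), FpqcDescLib.Covers f ∧
      ∀ z : P, ∃ (R : Type u) (_ : CommRing R) (j : Spec (CommRingCat.of R) ⟶ P),
        IsOpenImmersion j ∧ z ∈ Set.range j ∧ CutBy φ (j ≫ f) L := by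
  obtain ⟨P, f, hopen, hsurj, hcov, hp⟩ := hφ
  choose R iR j hj hz L hL using hp
  have hT : ∀ z q m, Triv φ m (f (j z q)) ↔ m ∈ L z := fun z q m => triv_iff φ (j z ≫ f) (hL z) q m
  have hrange : ∀ z y, y ∈ Set.range (j z) → ∀ m, Triv φ m (f y) ↔ Triv φ m (f z) := by
    rintro z _ ⟨q, rfl⟩ m
    obtain ⟨q₀, hq₀⟩ := hz z
    rw [hT, ← hT z q₀ m, hq₀]
  obtain ⟨s₀⟩ := (ConnectedSpace.toNonempty : Nonempty S)
  have hconst : ∀ (m : N) (s : S), Triv φ m s ↔ Triv φ m s₀ := by
    intro m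
    let E : Set S := {s | Triv φ m s}
    have hopn : ∀ Y : Set P, (∀ y ∈ Y, Set.range (j y) ⊆ Y) → IsOpen Y := fun Y hY => by
      rw [isOpen_iff_forall_mem_open]
      exact fun y hy => ⟨_, hY y hy, (j y).isOpenEmbedding.isOpen_range, hz y⟩
    have h1 : IsOpen E := hopen E (hopn _ fun y hy x hx => ((hrange y x hx m).mpr hy : _))
    have h2 : IsOpen Eᶜ := hopen Eᶜ (hopn _ fun y hy x hx h => hy ((hrange y x hx m).mp h))
    rcases isClopen_iff.mp (⟨⟨h2⟩, h1⟩ : IsClopen E) with h | h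
    · intro s
      exact iff_of_false (fun hs => Set.notMem_empty s (h ▸ (hs : s ∈ E))) (fun hs => Set.notMem_empty s₀ (h ▸ (hs : s₀ ∈ E)))
    · intro s
      exact iff_of_true (show s ∈ E from h ▸ trivial) (show s₀ ∈ E from h ▸ trivial)
  obtain ⟨x₀, hx₀⟩ := f.surjective s₀
  refine ⟨L x₀, P, f, hcov, fun z => ⟨R z, iR z, j z, hj z, hz z, ?_⟩⟩
  have hEq : L z = L x₀ := by
    ext m
    obtain ⟨q, hq⟩ := hz z
    obtain ⟨q₀, hq₀⟩ := hz x₀
    rw [← hT z q m, ← hT x₀ q₀ m, hq, hq₀, hx₀, hconst]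
  exact hEq ▸ hL z

/-- If one subgroup cuts out the kernel on all pieces, the kernel is that of `D(inc)`. -/
theorem exists_ker_eq_of_lattice {a : ℕ} (φ : Red.DS S (Fin a → ℤ) ⟶ G) (L : AddSubgroup (Fin a → ℤ))
    {P : Scheme.{u}} (f : P ⟶ S) (hcov : FpqcDescLib.Covers f)
    (hp : ∀ z : P, ∃ (R : Type u) (_ : CommRing R) (j : Spec (CommRingCat.of R) ⟶ P),
      IsOpenImmersion j ∧ z ∈ Set.range j ∧ CutBy φ (j ≫ f) L) :
    ∃ (r : ℕ) (inc : (Fin r → ℤ) →+ (Fin a → ℤ)), Function.Injective inc ∧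
      ∀ (Y : Over S) (x : Y ⟶ Red.DS S (Fin a → ℤ)), x ≫ φ = 1 ↔ x ≫ Red.DSmap S inc = 1 := by
  classical
  choose R iR j hj hz hL using hp
  let Lm : Submodule ℤ (Fin a → ℤ) := L.toIntSubmodule
  let bs := Module.finBasis ℤ Lm
  let inc : (Fin (Module.finrank ℤ Lm) → ℤ) →+ (Fin a → ℤ) :=
    (Lm.subtype.comp bs.equivFun.symm.toLinearMap).toAddMonoidHom
  have hinc : Function.Injective inc := fun x y h => bs.equivFun.symm.injective (Subtype.ext h)
  refine ⟨_, inc, hinc, fun Y x => ?_⟩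
  -- reduce to affine points over the pieces
  have key : ∀ {W : Over S} (a' b' : Y ⟶ W), (∀ (B : Type u) [CommRing B] (io : Spec (CommRingCat.of B) ⟶ Y.left)
      (z : P) (t : Spec (CommRingCat.of B) ⟶ Spec (CommRingCat.of (R z))), io ≫ Y.hom = t ≫ j z ≫ f →
        io ≫ a'.left = io ≫ b'.left) → a' = b' := by
    intro W a' b' h
    refine Over.OverMorphism.ext ?_
    haveI : Epi (pullback.fst Y.hom f) :=
      (hcov.pullback Y.hom _ (pullback.snd Y.hom f) (IsPullback.of_hasPullback Y.hom f)).epi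
    rw [← cancel_epi (pullback.fst Y.hom f)]
    let pr := pullback.snd Y.hom f
    refine Scheme.Cover.hom_ext (Scheme.openCoverOfIsOpenCover _ (fun y => pr ⁻¹ᵁ (j (pr y)).opensRange)
      (TopologicalSpace.Opens.ext (Set.eq_univ_of_forall fun y => by
        simp only [TopologicalSpace.Opens.coe_iSup, Set.mem_iUnion]
        exact ⟨y, hz (pr y)⟩))) _ _ fun y => ?_
    let O := pr ⁻¹ᵁ (j (pr y)).opensRange
    show O.ι ≫ _ = O.ι ≫ _
    have hrg : Set.range (O.ι ≫ pr) ⊆ Set.range (j (pr y)) := by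
      rintro _ ⟨w, rfl⟩
      exact w.2
    refine Scheme.Cover.hom_ext (O : Scheme.{u}).affineCover _ _ fun i => ?_
    obtain ⟨B, hB⟩ : ∃ B : CommRingCat.{u}, (O : Scheme.{u}).affineCover.X i = Spec B := ⟨_, rfl⟩
    obtain ⟨io, hio⟩ : ∃ io : Spec B ⟶ O, (O : Scheme.{u}).affineCover.f i = eqToHom hB ≫ io :=
      ⟨eqToHom hB.symm ≫ (O : Scheme.{u}).affineCover.f i, by simp⟩
    rw [hio]
    simp only [Category.assoc]
    congr 1
    have := h B (io ≫ O.ι ≫ pullback.fst Y.hom f) (pr y)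
      (io ≫ IsOpenImmersion.lift (j (pr y)) _ hrg) (by
        simp only [Category.assoc]
        rw [IsOpenImmersion.lift_fac_assoc, pullback.condition, Category.assoc])
    simpa only [Category.assoc] using this
  have pointwise : ∀ (B : Type u) [CommRing B] (io : Spec (CommRingCat.of B) ⟶ Y.left) (z : P)
      (t : Spec (CommRingCat.of B) ⟶ Spec (CommRingCat.of (R z))) (hio : io ≫ Y.hom = t ≫ j z ≫ f),
      ((Over.homMk io hio : spU (t ≫ j z ≫ f) ⟶ Y) ≫ x) ≫ φ = 1 ↔
        ((Over.homMk io hio : spU (t ≫ j z ≫ f) ⟶ Y) ≫ x) ≫ Red.DSmap S inc = 1 := by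
    intro B _ io z t hio
    obtain ⟨c, hc⟩ := exists_eq_pt _ ((Over.homMk io hio : spU (t ≫ j z ≫ f) ⟶ Y) ≫ x)
    rw [hc, pt_DSmap, pt_eq_one_iff]
    obtain ⟨τ, rfl⟩ : ∃ τ, Spec.map τ = t := ⟨_, Spec.map_preimage _⟩
    letI : Algebra (R z) B := τ.hom.toAlgebra
    refine ((hL z) B c).trans ⟨fun h n => ?_, fun h m hm => ?_⟩
    · rw [chr_pull]
      exact h _ (bs.equivFun.symm (Multiplicative.toAdd n)).2
    · have := h (Multiplicative.ofAdd (bs.equivFun ⟨m, hm⟩))
      rw [chr_pull] at this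
      convert this
      show m = inc (bs.equivFun ⟨m, hm⟩)
      simp [inc]
  haveI := S5427.isMonHom_DSmap S inc
  constructor
  all_goals
    intro hx
    refine key _ _ fun B _ io z t hio => ?_
    have hw : ((Over.homMk io hio : spU (t ≫ j z ≫ f) ⟶ Y) ≫ x) ≫ _ = 1 :=
      (Category.assoc _ _ _).trans ((congrArg (_ ≫ ·) hx).trans (MonObj.comp_one _))
  · have h := (pointwise B io z t hio).mp hw
    rw [Category.assoc, ← MonObj.comp_one (Over.homMk io hio : spU (t ≫ j z ≫ f) ⟶ Y)] at h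
    exact congrArg CommaMorphism.left h
  · have h := (pointwise B io z t hio).mpr hw
    rw [Category.assoc, ← MonObj.comp_one (Over.homMk io hio : spU (t ≫ j z ≫ f) ⟶ Y)] at h
    exact congrArg CommaMorphism.left h

/-- Over a connected base the kernel of `φ` is the kernel of `D(Λ) ` for one lattice `Λ ⊆ N`. -/
theorem exists_ker_eq [ConnectedSpace S] {a : ℕ} (φ : Red.DS S (Fin a → ℤ) ⟶ G)
    (hφ : HasPieces φ) :
    ∃ (r : ℕ) (inc : (Fin r → ℤ) →+ (Fin a → ℤ)), Function.Injective inc ∧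
      ∀ (Y : Over S) (x : Y ⟶ Red.DS S (Fin a → ℤ)), x ≫ φ = 1 ↔ x ≫ Red.DSmap S inc = 1 := by
  obtain ⟨L, P, f, hcov, hp⟩ := exists_lattice φ hφ
  exact exists_ker_eq_of_lattice φ L f hcov hp

end Groth.Agent.SplitTorLib
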