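import Groth.Agent.SplitTorLib.NormalExt

/-!
# Cocharacters and locally split subtori of tori over normal bases
-/

set_option autoImplicit false
set_option linter.style.haveILetI false

universe u

open CategoryTheory CategoryTheory.Limits MonoidalCategory CartesianMonoidalCategory AlgebraicGeometry
open scoped MonObj

namespace Groth.Agent.SplitTorLib

variable {S : Scheme.{u}} {T T₀ : Over S} [GrpObj T] [GrpObj T₀]

/-- A split subtorus through which all split subtori factor receives every homomorphism from a split torus. -/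
theorem exists_factor [ConnectedSpace S] (hT : SGA3x.IsMultTypeFT T) (j₀ : T₀ ⟶ T)
    (hmax : ∀ (T' : Over S) [GrpObj T'] (j' : T' ⟶ T) [IsMonHom j'] [Mono j'] (r' : ℕ),
      Red.IsSplitTorusWith (Fin r' → ℤ) T' → ∃ g : T' ⟶ T₀, g ≫ j₀ = j')
    {a : ℕ} (φ : Red.DS S (Fin a → ℤ) ⟶ T) (hφ : IsMonHom φ) : ∃ g, g ≫ j₀ = φ := by
  obtain ⟨r, inc, j, hj, hjm, hfac⟩ := exists_image φ hφ hT
  haveI := hj
  haveI := hjm
  obtain ⟨g, hg⟩ := hmax _ j r ⟨Iso.refl _⟩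
  exact ⟨Red.DSmap S inc ≫ g, by rw [Category.assoc, hg, hfac]⟩

theorem exists_gm_iso (S : Scheme.{u}) : Nonempty (Grp.mk (Red.DS S (Fin 1 → ℤ)) ≅ Grp.mk (Red.Gm S)) :=
  addEquiv_iso S (LinearEquiv.funUnique (Fin 1) ℤ ℤ).symm.toAddEquiv

theorem exists_factor_cocharacter [ConnectedSpace S] (hT : SGA3x.IsMultTypeFT T) (j₀ : T₀ ⟶ T)
    (hmax : ∀ (T' : Over S) [GrpObj T'] (j' : T' ⟶ T) [IsMonHom j'] [Mono j'] (r' : ℕ),
      Red.IsSplitTorusWith (Fin r' → ℤ) T' → ∃ g : T' ⟶ T₀, g ≫ j₀ = j')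
    (lam : Red.Gm S ⟶ T) (hlam : IsMonHom lam) : ∃ mu : Red.Gm S ⟶ T₀, mu ≫ j₀ = lam := by
  obtain ⟨i⟩ := exists_gm_iso S
  let φ : Grp.mk (Red.DS S (Fin 1 → ℤ)) ⟶ Grp.mk T := i.hom ≫ Grp.homMk'' (A := Grp.mk (Red.Gm S)) (B := Grp.mk T) lam hlam.one_hom hlam.mul_hom
  obtain ⟨g, hg⟩ := exists_factor hT j₀ hmax φ.hom.hom φ.hom.isMonHom_hom
  refine ⟨i.inv.hom.hom ≫ g, ?_⟩
  rw [Category.assoc, hg]
  exact congrArg (fun f => f.hom.hom) (Iso.inv_hom_id_assoc i (Grp.homMk'' (A := Grp.mk (Red.Gm S)) (B := Grp.mk T) lam hlam.one_hom hlam.mul_hom))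

variable [IsIntegral S] [IsLocallyNoetherian S]

theorem existsUnique_cocharacter (hnorm : ∀ x : S, IsIntegrallyClosed (S.presheaf.stalk x))
    (hT : SGA3x.IsMultTypeFT T)
    (lamK : Red.bc (S.fromSpecStalk (genericPoint S)) (Red.Gm S) ⟶ Red.bc (S.fromSpecStalk (genericPoint S)) T)
    (hlamK : IsMonHom lamK) :
    ∃! lam : Red.Gm S ⟶ T, IsMonHom lam ∧ (Over.pullback (S.fromSpecStalk (genericPoint S))).map lam = lamK := by
  let p := S.residue (genericPoint S)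
  haveI : IsIso p := by
    rw [ConcreteCategory.isIso_iff_bijective]
    exact ⟨RingHom.injective (show (S.functionField : Type u) →+* S.residueField (genericPoint S) from p.hom),
      IsLocalRing.residue_surjective⟩
  let k := S.fromSpecStalk (genericPoint S)
  have he : inv (Spec.map p) ≫ S.fromSpecResidueField (genericPoint S) = k := IsIso.inv_hom_id_assoc _ _
  obtain ⟨i⟩ := exists_gm_iso S
  let b : (Over.pullback k).mapGrp.obj (Grp.mk (Red.Gm S)) ⟶ (Over.pullback k).mapGrp.obj (Grp.mk T) :=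
    Grp.homMk'' lamK hlamK.one_hom hlamK.mul_hom
  obtain ⟨u, hu⟩ := exists_extend hnorm hT k (inv (Spec.map p)) he ((Over.pullback k).mapGrp.map i.hom ≫ b)
  have h1 : (Over.pullback k).mapGrp.map (i.inv ≫ u) = b := by
    rw [Functor.map_comp, hu, ← Functor.map_comp_assoc, Iso.inv_hom_id, CategoryTheory.Functor.map_id, Category.id_comp]
  have h2 : (Over.pullback k).map (i.inv ≫ u).hom.hom = lamK := congrArg (fun f => f.hom.hom) h1
  refine ⟨(i.inv ≫ u).hom.hom, ⟨(i.inv ≫ u).hom.isMonHom_hom, h2⟩, fun lam hlam => ?_⟩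
  have hid : i.inv.hom.hom ≫ i.hom.hom.hom = 𝟙 _ := congrArg (fun f => f.hom.hom) i.inv_hom_id
  have h3 : i.hom.hom.hom ≫ lam = i.hom.hom.hom ≫ (i.inv ≫ u).hom.hom := by
    refine eq_of_generic hnorm hT k (inv (Spec.map p)) he ?_
    rw [Functor.map_comp, Functor.map_comp, hlam.2, h2]
  have h4 := congrArg (fun f => i.inv.hom.hom ≫ f) h3
  simp only [reassoc_of% hid] at h4
  exact h4

theorem exists_factor_restrict [ConnectedSpace S] (hnorm : ∀ x : S, IsIntegrallyClosed (S.presheaf.stalk x))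
    (hT : SGA3x.IsMultTypeFT T) (j₀ : T₀ ⟶ T)
    (hmax : ∀ (T' : Over S) [GrpObj T'] (j' : T' ⟶ T) [IsMonHom j'] [Mono j'] (r' : ℕ),
      Red.IsSplitTorusWith (Fin r' → ℤ) T' → ∃ g : T' ⟶ T₀, g ≫ j₀ = j')
    (U : S.Opens) (T' : Over (U : Scheme.{u})) [GrpObj T'] (j' : T' ⟶ Red.bc U.ι T) (hj' : IsMonHom j') (r' : ℕ)
    (hT' : Red.IsSplitTorusWith (Fin r' → ℤ) T') :
    ∃ g : T' ⟶ Red.bc U.ι T₀, g ≫ (Over.pullback U.ι).map j₀ = j' := by
  rcases isEmpty_or_nonempty (U : Scheme.{u}) with hU | hU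
  · haveI : IsEmpty T'.left := Function.isEmpty T'.hom
    exact ⟨Over.homMk (isInitialOfIsEmpty.to _) (isInitialOfIsEmpty.hom_ext _ _),
      Over.OverMorphism.ext (isInitialOfIsEmpty.hom_ext _ _)⟩
  haveI : IsIntegral (U : Scheme.{u}) := isIntegral_of_isOpenImmersion U.ι
  have hgen : U.ι (genericPoint (U : Scheme.{u})) = genericPoint S := genericPoint_eq_of_isOpenImmersion U.ι
  let k₀ := (U : Scheme.{u}).fromSpecResidueField (genericPoint (U : Scheme.{u}))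
  let k := k₀ ≫ U.ι
  let e := Spec.map (U.ι.residueFieldMap (genericPoint (U : Scheme.{u}))) ≫ Spec.map (S.residueFieldCongr hgen.symm).hom
  have he : e ≫ S.fromSpecResidueField (genericPoint S) = k := by
    rw [Category.assoc, Scheme.residueFieldCongr_fromSpecResidueField,
      Scheme.Hom.SpecMap_residueFieldMap_fromSpecResidueField]
  obtain ⟨et⟩ := hT'
  obtain ⟨d⟩ := GrpSchLib.MultTypeBC.bc_DS U.ι (Fin r' → ℤ)
  obtain ⟨N⟩ := exists_natIso k₀ U.ι k rfl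
  let b₀ : (Over.pullback U.ι).mapGrp.obj (Grp.mk (Red.DS S (Fin r' → ℤ))) ⟶
      (Over.pullback U.ι).mapGrp.obj (Grp.mk T) :=
    d.hom ≫ et.inv ≫ Grp.homMk'' (A := Grp.mk T') (B := (Over.pullback U.ι).mapGrp.obj (Grp.mk T)) j' hj'.one_hom
      hj'.mul_hom
  obtain ⟨u, hu⟩ := exists_extend hnorm hT k e he
    (N.inv.app (Grp.mk (Red.DS S (Fin r' → ℤ))) ≫ (Over.pullback k₀).mapGrp.map b₀ ≫ N.hom.app (Grp.mk T))
  have hnat := N.hom.naturality u
  rw [hu, Iso.hom_inv_id_app_assoc, Functor.comp_map] at hnat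
  have h1 : (Over.pullback k₀).mapGrp.map ((Over.pullback U.ι).mapGrp.map u) = (Over.pullback k₀).mapGrp.map b₀ :=
    (cancel_mono _).mp hnat
  have hnormU : ∀ x : (U : Scheme.{u}), IsIntegrallyClosed ((U : Scheme.{u}).presheaf.stalk x) := fun x => by
    haveI := hnorm (U.ι x)
    exact IsIntegrallyClosed.of_equiv (asIso (U.ι.stalkMap x)).commRingCatIsoToRingEquiv
  have hk₀ : 𝟙 _ ≫ (U : Scheme.{u}).fromSpecResidueField (genericPoint (U : Scheme.{u})) = k₀ := Category.id_comp _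
  have h2 : d.inv.hom.hom ≫ ((Over.pullback U.ι).mapGrp.map u).hom.hom = d.inv.hom.hom ≫ b₀.hom.hom := by
    refine eq_of_generic hnormU (GrpSchLib.MultTypeBC.isMultTypeFT_bc U.ι hT) k₀ (𝟙 _) hk₀ ?_
    exact (Functor.map_comp _ _ _).trans
      ((congrArg ((Over.pullback k₀).map d.inv.hom.hom ≫ ·) (congrArg (fun f => f.hom.hom) h1)).trans
        (Functor.map_comp _ _ _).symm)
  obtain ⟨g, hg⟩ := exists_factor hT j₀ hmax u.hom.hom u.hom.isMonHom_hom
  refine ⟨et.hom.hom.hom ≫ d.inv.hom.hom ≫ (Over.pullback U.ι).map g, ?_⟩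
  rw [Category.assoc, Category.assoc, ← Functor.map_comp, hg]
  have hd : d.inv.hom.hom ≫ d.hom.hom.hom = 𝟙 _ := congrArg (fun f => f.hom.hom) d.inv_hom_id
  have het : et.hom.hom.hom ≫ et.inv.hom.hom = 𝟙 _ := congrArg (fun f => f.hom.hom) et.hom_inv_id
  have h3 : (Over.pullback U.ι).map u.hom.hom = ((Over.pullback U.ι).mapGrp.map u).hom.hom := rfl
  rw [h3]
  refine Eq.trans (congrArg (et.hom.hom.hom ≫ ·) h2) ?_
  show et.hom.hom.hom ≫ d.inv.hom.hom ≫ d.hom.hom.hom ≫ et.inv.hom.hom ≫ j' = j'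
  rw [reassoc_of% hd, reassoc_of% het]

theorem locallySplit_le [ConnectedSpace S] (hnorm : ∀ x : S, IsIntegrallyClosed (S.presheaf.stalk x))
    (hT : SGA3x.IsMultTypeFT T) (j₀ : T₀ ⟶ T) [Mono j₀]
    (hmax : ∀ (T' : Over S) [GrpObj T'] (j' : T' ⟶ T) [IsMonHom j'] [Mono j'] (r' : ℕ),
      Red.IsSplitTorusWith (Fin r' → ℤ) T' → ∃ g : T' ⟶ T₀, g ≫ j₀ = j')
    {T₁ : Over S} [GrpObj T₁] (j₁ : T₁ ⟶ T) (hj₁ : IsMonHom j₁)
    (hT₁ : ∀ s : S, ∃ U : S.Opens, s ∈ U ∧ ∃ r : ℕ, Red.IsSplitTorusWith (Fin r → ℤ) (Red.bc U.ι T₁)) :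
    ∃ g : T₁ ⟶ T₀, g ≫ j₀ = j₁ := by
  haveI := hj₁
  choose U hU r hr using hT₁
  have hloc : ∀ s, ∃ g : Red.bc (U s).ι T₁ ⟶ Red.bc (U s).ι T₀,
      g ≫ (Over.pullback (U s).ι).map j₀ = (Over.pullback (U s).ι).map j₁ := fun s =>
    exists_factor_restrict hnorm hT j₀ hmax (U s) (Red.bc (U s).ι T₁) ((Over.pullback (U s).ι).map j₁)
      (inferInstanceAs (IsMonHom ((Over.pullback (U s).ι).map j₁))) (r s) (hr s)
  choose g hg using hloc
  let 𝒱 := (S.openCoverOfIsOpenCover U (TopologicalSpace.IsOpenCover.mk (eq_top_iff.mpr fun s _ =>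
    TopologicalSpace.Opens.mem_iSup.mpr ⟨s, hU s⟩))).pullback₁ T₁.hom
  let m : ∀ s : S, Limits.pullback T₁.hom (U s).ι ⟶ T₀.left := fun s => (g s).left ≫ pullback.fst T₀.hom (U s).ι
  have hm : ∀ s, m s ≫ j₀.left = pullback.fst T₁.hom (U s).ι ≫ j₁.left := by
    intro s
    have h := congrArg (fun f => f.left ≫ pullback.fst T.hom (U s).ι) (hg s)
    simp only [Over.comp_left, Category.assoc] at h
    erw [pullback.lift_fst, pullback.lift_fst] at h
    simpa only [m, Category.assoc] using h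
  haveI : Mono j₀.left := Over.mono_left_of_mono j₀
  have hcompat : ∀ x y, pullback.fst (𝒱.f x) (𝒱.f y) ≫ m x = pullback.snd (𝒱.f x) (𝒱.f y) ≫ m y := by
    intro x y
    refine (cancel_mono j₀.left).mp ?_
    refine (Category.assoc _ _ _).trans ((congrArg (pullback.fst (𝒱.f x) (𝒱.f y) ≫ ·) (hm x)).trans ?_)
    refine Eq.trans ?_ ((Category.assoc _ _ _).trans (congrArg (pullback.snd (𝒱.f x) (𝒱.f y) ≫ ·) (hm y))).symm
    exact pullback.condition_assoc j₁.left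
  let g₀ := Scheme.Cover.glueMorphisms 𝒱 m hcompat
  have hg₀ : g₀ ≫ j₀.left = j₁.left := Scheme.Cover.hom_ext 𝒱 _ _ fun x => by
    rw [← Category.assoc, Scheme.Cover.ι_glueMorphisms 𝒱 m hcompat x]
    exact hm x
  refine ⟨Over.homMk g₀ ?_, Over.OverMorphism.ext hg₀⟩
  rw [← Over.w j₀, ← Category.assoc, hg₀, Over.w j₁]

end Groth.Agent.SplitTorLib
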