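import Groth.Agent.SplitTorLib.QuotTransport

/-!
# Base change of quotients of split tori
-/

set_option autoImplicit false
set_option linter.style.haveILetI false

universe u

open CategoryTheory CategoryTheory.Limits MonoidalCategory CartesianMonoidalCategory AlgebraicGeometry
open scoped MonObj
open Groth.Agent.DSPtsLib

namespace Groth.Agent.SplitTorLib

set_option backward.isDefEq.respectTransparency false in
theorem pullbackComp_hom_fst {U' U S : Scheme.{u}} (t : U' ⟶ U) (g : U ⟶ S) (A : Over S) :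
    ((Over.pullbackComp t g).hom.app A).left ≫ pullback.fst (Limits.pullback.snd A.hom g) t ≫ pullback.fst A.hom g =
      pullback.fst A.hom (t ≫ g) := by
  simp [Over.pullbackComp, conjugateIsoEquiv, Over.mapComp]
  exact (Category.id_comp _).trans (Category.id_comp _)

theorem bc_congr_fst {U S : Scheme.{u}} {a b : U ⟶ S} (h : a = b) (H : Over S) [GrpObj H] :
    ∃ e : Grp.mk (Red.bc a H) ≅ Grp.mk (Red.bc b H), e.hom.hom.hom.left ≫ pullback.fst _ _ = pullback.fst _ _ := by
  subst h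
  exact ⟨Iso.refl _, Category.id_comp _⟩

theorem bc_DS_fst {U V : Scheme.{u}} (g : V ⟶ U) (M : Type) [AddCommGroup M] :
    ∃ e : Grp.mk (Red.bc g (Red.DS U M)) ≅ Grp.mk (Red.DS V M),
      e.hom.hom.hom.left ≫ pullback.fst _ _ = pullback.fst _ _ ≫ pullback.fst _ _ := by
  let τU := Limits.IsTerminal.from specULiftZIsTerminal U
  let e₁ : Grp.mk (Red.bc g (Red.DS U M)) ≅ Grp.mk (Red.bc (g ≫ τU) (Red.diag (ULift.{u} ℤ) M)) :=
    ((Functor.mapGrpCompIso).symm ≪≫ Functor.mapGrpNatIso (Over.pullbackComp g τU).symm).app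
      (Grp.mk (Red.diag (ULift.{u} ℤ) M))
  obtain ⟨e₂, he₂⟩ := bc_congr_fst (specULiftZIsTerminal.hom_ext (g ≫ τU)
    (Limits.IsTerminal.from specULiftZIsTerminal V)) (Red.diag (ULift.{u} ℤ) M)
  refine ⟨e₁ ≪≫ e₂, ?_⟩
  show (e₁.hom.hom.hom.left ≫ e₂.hom.hom.hom.left) ≫ _ = _
  rw [Category.assoc, he₂]
  have h1 : e₁.hom.hom.hom = 𝟙 _ ≫ (Over.pullbackComp g τU).inv.app (Red.diag (ULift.{u} ℤ) M) := rfl
  rw [h1, Category.id_comp, ← pullbackComp_hom_fst g τU]
  rw [← Category.assoc, ← Over.comp_left, Iso.inv_hom_id_app]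
  exact Category.id_comp _

variable {U V : Scheme.{u}} {N : Type} [AddCommGroup N]

theorem theta_pt (g : V ⟶ U) (e : Grp.mk (Red.bc g (Red.DS U N)) ≅ Grp.mk (Red.DS V N))
    (he : e.hom.hom.hom.left ≫ pullback.fst _ _ = pullback.fst _ _ ≫ pullback.fst _ _) {B : Type u} [CommRing B]
    (j : Spec (CommRingCat.of B) ⟶ V) (c : CoordM.{u} N →+* B) :
    theta g (pt j c ≫ e.inv.hom.hom) = pt (j ≫ g) c := by
  have he' : e.inv.hom.hom.left ≫ pullback.fst _ _ ≫ pullback.fst _ _ = pullback.fst _ _ := by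
    rw [← he, ← Category.assoc, ← Over.comp_left, show e.inv.hom.hom ≫ e.hom.hom.hom = 𝟙 _ from
      congrArg (fun h => h.hom.hom) e.inv_hom_id]
    exact Category.id_comp _
  refine Over.OverMorphism.ext (pullback.hom_ext ?_ ?_)
  · rw [theta_left, pt_fst, Over.comp_left, Category.assoc, Category.assoc]
    erw [he', pt_fst]
  · refine (Over.w (theta g (pt j c ≫ e.inv.hom.hom))).trans ?_
    exact (Over.w (pt (j ≫ g) c)).symm

theorem cutBy_bc (g : V ⟶ U) {Q : Over U} [GrpObj Q] (q : Red.DS U N ⟶ Q)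
    (e : Grp.mk (Red.bc g (Red.DS U N)) ≅ Grp.mk (Red.DS V N))
    (he : e.hom.hom.hom.left ≫ pullback.fst _ _ = pullback.fst _ _ ≫ pullback.fst _ _)
    {R : Type u} [CommRing R] (β : Spec (CommRingCat.of R) ⟶ V) {L : AddSubgroup N} (h : CutBy q (β ≫ g) L) :
    CutBy (e.inv.hom.hom ≫ (Over.pullback g).map q) β L := by
  intro T _ _ c
  have key : theta g (pt (Spec.map (CommRingCat.ofHom (algebraMap R T)) ≫ β) c ≫ e.inv.hom.hom ≫
      (Over.pullback g).map q) = pt ((Spec.map (CommRingCat.ofHom (algebraMap R T)) ≫ β) ≫ g) c ≫ q := by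
    have h2 := GrpSchLib.HomUnitLocus.theta_comp_map g _
      (pt (Spec.map (CommRingCat.ofHom (algebraMap R T)) ≫ β) c ≫ e.inv.hom.hom) q
    rw [Category.assoc, theta_pt g e he] at h2
    exact h2
  have hh : pt ((Spec.map (CommRingCat.ofHom (algebraMap R T)) ≫ β) ≫ g) c ≫ q = 1 ↔
      ∀ m ∈ L, chr c (Multiplicative.ofAdd m) = 1 := by
    rw [Category.assoc]; exact h T c
  refine Iff.trans ⟨fun hx => ?_, fun hx => ?_⟩ hh
  · rw [← key]
    erw [hx]
    rw [GrpSchLib.HomUnitLocus.theta_one]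
  · refine (theta_bijective g).1 ?_
    rw [key]
    erw [hx]
    rw [GrpSchLib.HomUnitLocus.theta_one]

theorem isQuotient_bc (g : V ⟶ U) {T H Q : Over U} [GrpObj T] [GrpObj H] [GrpObj Q] (i : H ⟶ T) (q : T ⟶ Q)
    (hq : RedSub.IsQuotient i q) :
    RedSub.IsQuotient ((Over.pullback g).map i) ((Over.pullback g).map q) := by
  refine ⟨MorphismProperty.overPullbackMap _ q hq.1, MorphismProperty.overPullbackMap _ q hq.2.1,
    MorphismProperty.overPullbackMap _ q hq.2.2.1, ?_⟩
  refine IsPullback.of_iso (hq.2.2.2.map (Over.pullback g)) (Functor.Monoidal.μIso (Over.pullback g) T H).symm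
    (Iso.refl _) (Iso.refl _) (Iso.refl _) ?_ ?_ (by simp) (by simp)
  · rw [Iso.refl_hom, Category.comp_id, Iso.symm_hom, ← cancel_epi (Functor.Monoidal.μIso (Over.pullback g) T H).hom,
      Iso.hom_inv_id_assoc]
    exact Functor.Monoidal.μ_fst (Over.pullback g) T H
  · rw [Iso.refl_hom, Category.comp_id, Iso.symm_hom, ← cancel_epi (Functor.Monoidal.μIso (Over.pullback g) T H).hom,
      Iso.hom_inv_id_assoc]
    show Functor.LaxMonoidal.μ (Over.pullback g) T H ≫ _ = _
    rw [Functor.map_comp, ← Category.assoc, ← Functor.LaxMonoidal.μ_natural_right, Category.assoc]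
    rfl

end Groth.Agent.SplitTorLib
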