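import Groth.Agent.S5282
import Groth.Agent.MultConjLib.Torus
import Groth.Agent.SplitTorLib.Image
import Groth.Agent.H23.FinCondSch

/-!
# Homomorphisms out of split tori over normal integral bases
-/

set_option autoImplicit false
set_option linter.style.haveILetI false

universe u

open CategoryTheory CategoryTheory.Limits MonoidalCategory CartesianMonoidalCategory AlgebraicGeometry
open scoped MonObj

namespace Groth.Agent.SplitTorLib

theorem isMultTypeFT_of_isTorus {S : Scheme.{u}} {T : Over S} [GrpObj T] (hT : Red.IsTorus T) :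
    SGA3x.IsMultTypeFT T := by
  obtain ⟨S', f, hf, hs, hcov, hloc⟩ := hT
  refine ⟨S', f, hf, hs, hcov, fun s' => ?_⟩
  obtain ⟨U, hU, r, hr⟩ := hloc s'
  exact ⟨U, hU, Fin r → ℤ, inferInstance, Module.Finite.iff_addGroup_fg.mp inferInstance, hr⟩

theorem isIntegral_of_connected_normal {S : Scheme.{u}} [ConnectedSpace S] [IsLocallyNoetherian S]
    (hnorm : ∀ x : S, IsDomain (S.presheaf.stalk x) ∧ IsIntegrallyClosed (S.presheaf.stalk x)) : IsIntegral S :=
  (H23.FinCondSch.isIntegral_iff (X := S)).mpr ⟨inferInstance, fun x => (hnorm x).1⟩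

theorem addEquiv_iso (S : Scheme.{u}) {M N : Type} [AddCommGroup M] [AddCommGroup N] (e : M ≃+ N) :
    Nonempty (Grp.mk (Red.DS S N) ≅ Grp.mk (Red.DS S M)) := by
  let i : Red.DS S N ≅ Red.DS S M :=
    { hom := Red.DSmap S e.toAddMonoidHom
      inv := Red.DSmap S e.symm.toAddMonoidHom
      hom_inv_id := by
        rw [DSmap_comp, show e.toAddMonoidHom.comp e.symm.toAddMonoidHom = AddMonoidHom.id N from
          AddMonoidHom.ext e.apply_symm_apply]
        exact (DSmap_id_zero S N N).1
      inv_hom_id := by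
        rw [DSmap_comp, show e.symm.toAddMonoidHom.comp e.toAddMonoidHom = AddMonoidHom.id M from
          AddMonoidHom.ext e.symm_apply_apply]
        exact (DSmap_id_zero S M M).1 }
  have h : IsMonHom i.hom := S5427.isMonHom_DSmap S e.toAddMonoidHom
  exact ⟨Grp.mkIso i h.one_hom h.mul_hom⟩

theorem exists_natIso {S U W : Scheme.{u}} (e : W ⟶ U) (g : U ⟶ S) (k : W ⟶ S) (h : e ≫ g = k) :
    Nonempty ((Over.pullback g).mapGrp ⋙ (Over.pullback e).mapGrp ≅ (Over.pullback k).mapGrp) := by
  subst h
  exact ⟨(Functor.mapGrpCompIso).symm ≪≫ Functor.mapGrpNatIso (Over.pullbackComp e g).symm⟩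

theorem map_injective_of_isIso {U W : Scheme.{u}} (e : W ⟶ U) [IsIso e] {A B : Over U} (f g : A ⟶ B)
    (h : (Over.pullback e).map f = (Over.pullback e).map g) : f = g := by
  refine Over.OverMorphism.ext ?_
  have h1 := congrArg (fun m => m.left ≫ pullback.fst B.hom e) h
  simp only [Over.pullback_map_left, pullback.lift_fst] at h1
  exact (cancel_epi (pullback.fst A.hom e)).mp h1

theorem connectedSpace_fibre {S : Scheme.{u}} (r : ℕ) (s : S) :
    ConnectedSpace ↥(pullback (Red.DS S (Fin r → ℤ)).hom (S.fromSpecResidueField s)) := by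
  haveI : IrreducibleSpace ↥(pullback (Red.DS S (Fin r → ℤ)).hom (S.fromSpecResidueField s)) :=
    MultConjLib.irreducible_DS_free r (S.fromSpecResidueField s)
  infer_instance

variable {S : Scheme.{u}} [IsIntegral S] [IsLocallyNoetherian S]

/-- Homomorphisms over the generic point extend. -/
theorem exists_extend (hnorm : ∀ x : S, IsIntegrallyClosed (S.presheaf.stalk x)) {r : ℕ} {T : Over S} [GrpObj T]
    (hT : SGA3x.IsMultTypeFT T) {W : Scheme.{u}} (k : W ⟶ S) (e : W ⟶ Spec (S.residueField (genericPoint S)))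
    [IsIso e] (he : e ≫ S.fromSpecResidueField (genericPoint S) = k)
    (b : (Over.pullback k).mapGrp.obj (Grp.mk (Red.DS S (Fin r → ℤ))) ⟶ (Over.pullback k).mapGrp.obj (Grp.mk T)) :
    ∃ u : Grp.mk (Red.DS S (Fin r → ℤ)) ⟶ Grp.mk T, (Over.pullback k).mapGrp.map u = b := by
  obtain ⟨N⟩ := exists_natIso (inv e) k (S.fromSpecResidueField (genericPoint S))
    (by rw [← he, IsIso.inv_hom_id_assoc])
  let v := N.inv.app (Grp.mk (Red.DS S (Fin r → ℤ))) ≫ (Over.pullback (inv e)).mapGrp.map b ≫ N.hom.app (Grp.mk T)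
  let v' : Red.bc (S.fromSpecResidueField (genericPoint S)) (Red.DS S (Fin r → ℤ)) ⟶
      Red.bc (S.fromSpecResidueField (genericPoint S)) T := v.hom.hom
  haveI : IsMonHom v' := v.hom.isMonHom_hom
  obtain ⟨u, hu, hu'⟩ := S5282.result hnorm (Red.DS S (Fin r → ℤ)) T (MultConjLib.smooth_DS_free S r)
    (connectedSpace_fibre r) hT v'
  haveI := hu
  let u' : Grp.mk (Red.DS S (Fin r → ℤ)) ⟶ Grp.mk T := Grp.homMk'' u hu.one_hom hu.mul_hom
  refine ⟨u', ?_⟩
  have hv : (Over.pullback (S.fromSpecResidueField (genericPoint S))).mapGrp.map u' = v := by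
    ext : 2
    exact congrArg (fun m => m.left) hu'
  have hnat := N.hom.naturality u'
  rw [hv] at hnat
  have h2 : (Over.pullback (inv e)).mapGrp.map ((Over.pullback k).mapGrp.map u') =
      (Over.pullback (inv e)).mapGrp.map b := by
    simp only [v, Functor.comp_map, Iso.hom_inv_id_app_assoc] at hnat
    exact (cancel_mono _).mp hnat
  ext : 2
  exact congrArg (fun m => m.left) (map_injective_of_isIso (inv e) _ _ (congrArg (fun f => f.hom.hom) h2))

/-- Homomorphisms agreeing over the generic point agree. -/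
theorem eq_of_generic (hnorm : ∀ x : S, IsIntegrallyClosed (S.presheaf.stalk x)) {r : ℕ} {T : Over S} [GrpObj T]
    (hT : SGA3x.IsMultTypeFT T) {W : Scheme.{u}} (k : W ⟶ S) (e : W ⟶ Spec (S.residueField (genericPoint S)))
    [IsIso e] (he : e ≫ S.fromSpecResidueField (genericPoint S) = k)
    {u u' : Red.DS S (Fin r → ℤ) ⟶ T} (h : (Over.pullback k).map u = (Over.pullback k).map u') : u = u' := by
  haveI := MultConjLib.isAffineHom_of_locDS (MultConjLib.isLocDS_of_multTypeFT hT)
  haveI : Smooth (Red.DS S (Fin r → ℤ)).hom := MultConjLib.smooth_DS_free S r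
  haveI : IsReduced (Red.DS S (Fin r → ℤ)).left :=
    NeronHDLib.isReduced_of_isNormalScheme (NeronHDLib.isNormalScheme_of_smooth (Red.DS S (Fin r → ℤ)).hom
      (fun x => ⟨inferInstance, hnorm x⟩))
  refine Over.OverMorphism.ext (S5282.ext_of_generic (Red.DS S (Fin r → ℤ)).hom T.hom (Over.w u) (Over.w u') ?_)
  subst he
  have h1 : (Over.pullback (S.fromSpecResidueField (genericPoint S))).map u =
      (Over.pullback (S.fromSpecResidueField (genericPoint S))).map u' := by
    refine map_injective_of_isIso e _ _ ?_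
    have n1 := (Over.pullbackComp e (S.fromSpecResidueField (genericPoint S))).hom.naturality u
    have n2 := (Over.pullbackComp e (S.fromSpecResidueField (genericPoint S))).hom.naturality u'
    rw [h] at n1
    simp only [Functor.comp_map] at n1 n2
    exact (cancel_epi _).mp (n1.symm.trans n2)
  have h2 := congrArg (fun m => m.left ≫ pullback.fst T.hom (S.fromSpecResidueField (genericPoint S))) h1
  simp only [Over.pullback_map_left, pullback.lift_fst] at h2
  exact h2

end Groth.Agent.SplitTorLib
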