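import Groth.Agent.SplitTorLib.QuotLocal

/-!
# Quotients of (locally split) tori by subgroups of multiplicative type
-/

set_option autoImplicit false
set_option linter.style.haveILetI false

universe u

open CategoryTheory CategoryTheory.Limits MonoidalCategory CartesianMonoidalCategory AlgebraicGeometry
open scoped MonObj

namespace Groth.Agent.SplitTorLib

/-- Near a point of a piece over which `T` is split, the quotient is split. -/
theorem exists_split_piece {S S' : Scheme.{u}} (f : S' ⟶ S) {T H Q : Over S} [GrpObj T] [GrpObj H] [GrpObj Q]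
    (i : H ⟶ T) (hih : IsMonHom i) (him : Mono i) (hH : SGA3x.IsMultTypeFT H) (q : T ⟶ Q) (hqh : IsMonHom q)
    (hq : RedSub.IsQuotient i q) (U : S'.Opens) {r : ℕ} (hT : Red.IsSplitTorusWith (Fin r → ℤ) (Red.bc (U.ι ≫ f) T))
    (w : S') (hw : w ∈ U) :
    ∃ V : S'.Opens, w ∈ V ∧ ∃ r' : ℕ, Red.IsSplitTorusWith (Fin r' → ℤ) (Red.bc (V.ι ≫ f) Q) := by
  haveI := hih; haveI := him; haveI := hqh
  let g := U.ι ≫ f
  obtain ⟨V, hV, r', hs⟩ := exists_nhd_split (U := (U : Scheme.{u})) hT ((Over.pullback g).map i) inferInstance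
    inferInstance (GrpSchLib.MultTypeBC.isMultTypeFT_bc g hH) ((Over.pullback g).map q) inferInstance
    (isQuotient_bc g i q hq) ⟨w, hw⟩
  let V' : S'.Opens := U.ι ''ᵁ V
  refine ⟨V', ⟨⟨w, hw⟩, hV, rfl⟩, r', ?_⟩
  have hr : Set.range V'.ι ⊆ Set.range (V.ι ≫ U.ι) := by
    rw [Scheme.Opens.range_ι, Scheme.Hom.comp_base, TopCat.coe_comp, Set.range_comp, Scheme.Opens.range_ι]
    exact subset_rfl
  let t := IsOpenImmersion.lift (V.ι ≫ U.ι) V'.ι hr
  have ht : t ≫ V.ι ≫ U.ι ≫ f = V'.ι ≫ f := by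
    rw [← Category.assoc V.ι, IsOpenImmersion.lift_fac_assoc]
  have h1 := isSplit_bc t hs
  obtain ⟨e₁⟩ := GrpSchLib.MultTypeBC.bc_bc V.ι g Q
  obtain ⟨e₁'⟩ := GrpSchLib.MultTypeBC.bc_iso t e₁
  obtain ⟨e₂⟩ := GrpSchLib.MultTypeBC.bc_bc t (V.ι ≫ g) Q
  obtain ⟨e₃⟩ := GrpSchLib.MultTypeBC.bc_congr ht Q
  obtain ⟨e⟩ := h1
  exact ⟨(e₁' ≪≫ e₂ ≪≫ e₃).symm ≪≫ e⟩

end Groth.Agent.SplitTorLib
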