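import Groth.Agent.SplitTorLib.Quot

/-!
# Quotients of split tori are split
-/

set_option autoImplicit false
set_option linter.style.haveILetI false

universe u

open CategoryTheory CategoryTheory.Limits MonoidalCategory CartesianMonoidalCategory AlgebraicGeometry
open scoped MonObj

namespace Groth.Agent.SplitTorLib

theorem isQuotient_transport {S : Scheme.{u}} {T T' H Q : Over S} [GrpObj T] [GrpObj T'] [GrpObj H] [GrpObj Q]
    (e : T ≅ T') (he : IsMonHom e.hom) (i : H ⟶ T) (q : T ⟶ Q) (hq : RedSub.IsQuotient i q) :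
    RedSub.IsQuotient (i ≫ e.hom) (e.inv ≫ q) := by
  haveI := hq.1; haveI := hq.2.1; haveI := hq.2.2.1
  haveI := he
  haveI : IsIso e.inv.left := inferInstanceAs (IsIso ((Over.forget _).map e.inv))
  refine ⟨by rw [Over.comp_left]; infer_instance, by rw [Over.comp_left]; infer_instance,
    by rw [Over.comp_left]; infer_instance, ?_⟩
  refine IsPullback.of_iso hq.2.2.2 (whiskerRightIso e H) e e (Iso.refl Q) (by simp) ?_ (by simp) (by simp)
  show ((T ◁ i) ≫ μ[T]) ≫ e.hom = (e.hom ▷ H) ≫ (T' ◁ (i ≫ e.hom)) ≫ μ[T']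
  rw [Category.assoc, IsMonHom.mul_hom e.hom, ← Category.assoc, ← Category.assoc]
  congr 1
  rw [← MonoidalCategory.id_tensorHom, ← MonoidalCategory.tensorHom_id, ← MonoidalCategory.id_tensorHom,
    MonoidalCategory.tensorHom_comp_tensorHom, MonoidalCategory.tensorHom_comp_tensorHom]
  simp

theorem isSplit_quotient {S : Scheme.{u}} [ConnectedSpace S] {T H Q : Over S} [GrpObj T] [GrpObj H] [GrpObj Q] (r : ℕ)
    (hT : Red.IsSplitTorusWith (Fin r → ℤ) T) (i : H ⟶ T) (hih : IsMonHom i) (him : Mono i)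
    (hH : SGA3x.IsMultTypeFT H) (q : T ⟶ Q) (hqh : IsMonHom q) (hq : RedSub.IsQuotient i q) :
    ∃ r' : ℕ, r' ≤ r ∧ Red.IsSplitTorusWith (Fin r' → ℤ) Q := by
  obtain ⟨e⟩ := hT
  let ei : T ≅ Red.DS S (Fin r → ℤ) := (Grp.forget _).mapIso e
  haveI he : IsMonHom ei.hom := e.hom.hom.isMonHom_hom
  haveI he' : IsMonHom ei.inv := e.inv.hom.isMonHom_hom
  haveI := hih; haveI := him; haveI := hqh
  have hq' := isQuotient_transport ei he i q hq
  have h1 : IsMonHom (i ≫ ei.hom) := inferInstance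
  have h2 : IsMonHom (ei.inv ≫ q) := inferInstance
  have h3 : Mono (i ≫ ei.hom) := inferInstance
  exact @nonempty_iso_of_quotient _ _ r H Q _ _ (i ≫ ei.hom) h1 h3 hH (ei.inv ≫ q) h2 hq'

end Groth.Agent.SplitTorLib
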