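import Groth.Agent.DSPtsLib.Basic
import Groth.Agent.GrpSchLib.MultTypeBC
import Groth.Prelude.Def_SGA3x
import Mathlib.RingTheory.RootsOfUnity.AlgebraicallyClosed

/-!
# Split tori: the trivial torus, base change, and the bound on the rank of a split subtorus
-/

set_option autoImplicit false
set_option linter.style.haveILetI false

universe u

open CategoryTheory CategoryTheory.Limits MonoidalCategory CartesianMonoidalCategory AlgebraicGeometry
open scoped MonObj
open Groth.Agent.DSPtsLib

namespace Groth.Agent.SplitTorLib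

theorem ringHom_ext' {M : Type} [AddCommGroup M] {B : Type u} [CommRing B] {f g : CoordM.{u} M →+* B}
    (h : ∀ m : Multiplicative M, f (MonoidAlgebra.single m 1) = g (MonoidAlgebra.single m 1)) : f = g :=
  MonoidAlgebra.ringHom_ext (fun r => RingHom.congr_fun (ulift_ringHom_ext
    (f.comp MonoidAlgebra.singleOneRingHom) (g.comp MonoidAlgebra.singleOneRingHom)) r) h

/-- The character of a point with values in an algebra. -/
noncomputable def chr {M : Type} [AddCommGroup M] {B : Type u} [CommRing B] (f : CoordM.{u} M →+* B)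
    (m : Multiplicative M) : B := f (MonoidAlgebra.single m 1)

theorem exists_hom_of_char {M : Type} [AddCommGroup M] {B : Type u} [CommRing B] (χ : Multiplicative M →* B) :
    ∃ f : CoordM.{u} M →+* B, ∀ m, chr f m = χ m := by
  refine ⟨MonoidAlgebra.liftNCRingHom ((algebraMap ℤ B).comp ULift.ringEquiv.toRingHom) χ (fun _ _ => Commute.all _ _),
    fun m => ?_⟩
  show MonoidAlgebra.liftNCRingHom _ χ _ (MonoidAlgebra.single m 1) = χ m
  simp [MonoidAlgebra.liftNCRingHom, MonoidAlgebra.liftNC_single]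

theorem chr_mul {M : Type} [AddCommGroup M] {B : Type u} [CommRing B] (f : CoordM.{u} M →+* B)
    (a b : Multiplicative M) : chr f (a * b) = chr f a * chr f b := by
  show f _ = f _ * f _
  rw [← map_mul, MonoidAlgebra.single_mul_single, one_mul]

theorem chr_one {M : Type} [AddCommGroup M] {B : Type u} [CommRing B] (f : CoordM.{u} M →+* B) :
    chr f 1 = 1 := map_one f

theorem pt_injective' {U : Scheme.{u}} {M : Type} [AddCommGroup M] {B : Type u} [CommRing B]
    (j : Spec (CommRingCat.of B) ⟶ U) : Function.Injective (pt (M := M) j) := fun f g h => by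
  have h2 := congrArg (fun p : spU j ⟶ Red.DS U M => p.left ≫ pullback.fst _ _) h
  rw [pt_fst, pt_fst] at h2
  exact congrArg CommRingCat.Hom.hom (Spec.map_injective h2)

theorem pt_pow {U : Scheme.{u}} {M : Type} [AddCommGroup M] {B : Type u} [CommRing B]
    (j : Spec (CommRingCat.of B) ⟶ U) (f : CoordM.{u} M →+* B) (n : ℕ) :
    ∃ g, pt j f ^ n = pt j g ∧ ∀ m, chr g m = chr f m ^ n := by
  induction n with
  | zero =>
    obtain ⟨g, hg⟩ := exists_eq_pt j (1 : spU j ⟶ Red.DS U M)
    refine ⟨g, by rw [pow_zero, hg], fun m => ?_⟩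
    obtain ⟨g2, hg2⟩ := exists_hom_of_char (B := B)
      ({ toFun := fun m => chr g m * chr g m
         map_one' := by rw [chr_one, mul_one]
         map_mul' := fun a b => by rw [chr_mul, mul_mul_mul_comm] } : Multiplicative M →* B)
    have h := pt_mul j g g g2 hg2
    have hgg : pt j g * pt j g = pt j g := by rw [← hg]; exact mul_one (1 : spU j ⟶ Red.DS U M)
    rw [hgg] at h
    have hu : IsUnit (chr g m) := by
      refine IsUnit.of_mul_eq_one (chr g m⁻¹) ?_
      rw [← chr_mul, mul_inv_cancel, chr_one]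
    have e : chr g m * chr g m = chr g m * 1 := by
      rw [mul_one]; exact ((hg2 m).symm.trans (congrArg (fun f => chr f m) (pt_injective' j h).symm))
    rw [pow_zero]
    exact hu.mul_left_cancel e
  | succ n ih =>
    obtain ⟨g, hg, hgm⟩ := ih
    obtain ⟨g2, hg2⟩ := exists_hom_of_char (B := B)
      ({ toFun := fun m => chr g m * chr f m
         map_one' := by rw [chr_one, chr_one, mul_one]
         map_mul' := fun a b => by rw [chr_mul, chr_mul, mul_mul_mul_comm] } : Multiplicative M →* B)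
    refine ⟨g2, by rw [pow_succ, hg, pt_mul j g f g2 hg2], fun m => ?_⟩
    rw [hg2, pow_succ, ← hgm]
    rfl

theorem comp_pow_eq_one {U : Scheme.{u}} {X A B : Over U} [GrpObj A] [GrpObj B] (φ : A ⟶ B) (hφ : IsMonHom φ)
    (x : X ⟶ A) (n : ℕ) (h : x ^ n = 1) : (x ≫ φ) ^ n = 1 := by
  haveI := hφ
  rw [← MonObj.pow_comp, h, MonObj.one_comp]

/-- The ℓ-torsion bound: a monomorphic homomorphism from a split torus of rank `r` into `D(M)`, with `M` generated
by `n` elements, forces `r ≤ n`. -/
theorem rank_le_of_mono {U : Scheme.{u}} [Nonempty U] {M : Type} [AddCommGroup M] {n : ℕ} (gen : Fin n → M)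
    (hgen : AddSubgroup.closure (Set.range gen) = ⊤) {r : ℕ} (φ : Red.DS U (Fin r → ℤ) ⟶ Red.DS U M) [hφ₀ : IsMonHom φ]
    [Mono φ] : r ≤ n := by
  have hφ := hφ₀
  classical
  obtain ⟨x⟩ := ‹Nonempty U›
  obtain ⟨K, _, _, q⟩ : ∃ (K : Type u) (_ : Field K) (_ : IsAlgClosed K), Nonempty (Spec (CommRingCat.of K) ⟶ U) :=
    ⟨AlgebraicClosure (U.residueField x), inferInstance, inferInstance,
      ⟨Spec.map (CommRingCat.ofHom (algebraMap (U.residueField x) _)) ≫ U.fromSpecResidueField x⟩⟩
  obtain ⟨q⟩ := q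
  obtain ⟨ℓ, hℓ, hℓK⟩ : ∃ ℓ : ℕ, ℓ.Prime ∧ (ℓ : K) ≠ 0 := by
    by_cases h : ((2 : ℕ) : K) = 0
    · refine ⟨3, by decide, fun h3 => one_ne_zero (α := K) ?_⟩
      push_cast at h h3
      linear_combination h3 - h
    · exact ⟨2, by decide, h⟩
  haveI : NeZero (ℓ : K) := ⟨hℓK⟩
  haveI : NeZero ℓ := ⟨hℓ.ne_zero⟩
  obtain ⟨ζ, hζ⟩ := (inferInstance : HasEnoughRootsOfUnity K ℓ).prim
  -- the torsion points of the source
  have hsrc : ∀ a : Fin r → Fin ℓ, ∃ f : CoordM.{u} (Fin r → ℤ) →+* K, ∀ i,
      chr f (Multiplicative.ofAdd (Pi.single i 1)) = ζ ^ (a i : ℕ) ∧ pt q f ^ ℓ = 1 := by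
    intro a
    let z : Kˣ := (hζ.isUnit hℓ.ne_zero).unit
    let χ : Multiplicative (Fin r → ℤ) →* K :=
      { toFun := fun m => ((z ^ (∑ i, m.toAdd i * (a i : ℤ)) : Kˣ) : K)
        map_one' := by simp
        map_mul' := fun m m' => by
          simp only [toAdd_mul, Pi.add_apply, add_mul, Finset.sum_add_distrib, zpow_add, Units.val_mul] }
    obtain ⟨f, hf⟩ := exists_hom_of_char χ
    refine ⟨f, fun i => ⟨?_, ?_⟩⟩
    · rw [hf]
      show ((z ^ (∑ j, (Pi.single i (1 : ℤ) : Fin r → ℤ) j * (a j : ℤ)) : Kˣ) : K) = _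
      rw [Finset.sum_eq_single i (fun j _ hj => by simp [Pi.single_eq_of_ne hj]) (by simp), Pi.single_eq_same, one_mul,
        zpow_natCast, Units.val_pow_eq_pow_val]
      rfl
    · obtain ⟨g, hg, hgm⟩ := pt_pow q f ℓ
      obtain ⟨g0, hg0, hg0m⟩ := pt_pow q f 0
      rw [hg, ← pow_zero (pt q f), hg0]
      congr 1
      refine ringHom_ext' fun m => ?_
      show chr g m = chr g0 m
      rw [hgm, hg0m, pow_zero, hf]
      have hz : z ^ ℓ = 1 := Units.ext (by rw [Units.val_pow_eq_pow_val]; exact hζ.pow_eq_one)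
      show ((z ^ (∑ j, m.toAdd j * (a j : ℤ)) : Kˣ) : K) ^ ℓ = 1
      rw [← Units.val_pow_eq_pow_val, ← zpow_natCast, ← zpow_mul, mul_comm, zpow_mul, zpow_natCast, hz, one_zpow,
        Units.val_one]
  choose src hsrc using hsrc
  -- the torsion points of the target
  have htgt : ∀ a : Fin r → Fin ℓ, ∃ b : Fin n → Fin ℓ, ∃ f, pt q (src a) ≫ φ = pt q f ∧
      ∀ i, chr f (Multiplicative.ofAdd (gen i)) = ζ ^ (b i : ℕ) := by
    intro a
    obtain ⟨f, hf⟩ := exists_eq_pt q (pt q (src a) ≫ φ)
    have h1 : pt q f ^ ℓ = 1 := by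
      rcases Nat.eq_zero_or_pos r with hr | hr
      · obtain ⟨g, hg⟩ := exists_eq_pt q (1 : spU q ⟶ Red.DS U (Fin r → ℤ))
        have : src a = g := ringHom_ext' fun m => by
          subst hr
          rw [show m = 1 from Subsingleton.elim _ _, ← MonoidAlgebra.one_def, map_one, map_one]
        rw [← hf]
        exact comp_pow_eq_one φ hφ _ ℓ (by rw [this, ← hg]; exact one_pow ℓ)
      · rw [← hf]
        exact comp_pow_eq_one φ hφ _ ℓ (hsrc a ⟨0, hr⟩).2
    obtain ⟨g, hg, hgm⟩ := pt_pow q f ℓ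
    obtain ⟨g0, hg0, hg0m⟩ := pt_pow q f 0
    have he : g = g0 := pt_injective' q (by rw [← hg, h1, ← hg0, pow_zero])
    have hb : ∀ i, ∃ j : Fin ℓ, chr f (Multiplicative.ofAdd (gen i)) = ζ ^ (j : ℕ) := fun i => by
      have : chr f (Multiplicative.ofAdd (gen i)) ^ ℓ = 1 := by rw [← hgm, he, hg0m, pow_zero]
      obtain ⟨j, hj, hje⟩ := hζ.eq_pow_of_pow_eq_one this
      exact ⟨⟨j, hj⟩, hje.symm⟩
    choose b hb using hb
    exact ⟨b, f, hf, hb⟩
  choose b f hbf hb using htgt
  have hinj : Function.Injective b := by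
    intro a a' h
    have hff : f a = f a' := by
      refine ringHom_ext' fun m => ?_
      obtain ⟨m, rfl⟩ := Multiplicative.ofAdd.surjective m
      have hm : m ∈ AddSubgroup.closure (Set.range gen) := hgen ▸ AddSubgroup.mem_top m
      induction hm using AddSubgroup.closure_induction with
      | mem y hy =>
        obtain ⟨i, rfl⟩ := hy
        show chr (f a) _ = chr (f a') _
        rw [hb, hb, h]
      | zero => exact (map_one (f a)).trans (map_one (f a')).symm
      | add y y' _ _ hy hy' =>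
        show chr (f a) (Multiplicative.ofAdd y * Multiplicative.ofAdd y') =
          chr (f a') (Multiplicative.ofAdd y * Multiplicative.ofAdd y')
        rw [chr_mul, chr_mul]
        exact congrArg₂ (· * ·) hy hy'
      | neg y _ hy =>
        show chr (f a) (Multiplicative.ofAdd y)⁻¹ = chr (f a') (Multiplicative.ofAdd y)⁻¹
        have hu : ∀ F : CoordM.{u} M →+* K,
            chr F (Multiplicative.ofAdd y)⁻¹ = (chr F (Multiplicative.ofAdd y))⁻¹ := fun F => by
          refine eq_inv_of_mul_eq_one_left ?_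
          rw [← chr_mul, inv_mul_cancel, chr_one]
        rw [hu, hu]
        exact congrArg (·⁻¹) hy
    have hpt : pt q (src a) = pt q (src a') := by
      rw [← cancel_mono φ, hbf, hbf, hff]
    have hs := pt_injective' q hpt
    funext i
    refine Fin.ext (hζ.pow_inj (a i).2 (a' i).2 ?_)
    rw [← (hsrc a i).1, ← (hsrc a' i).1, hs]
  have := Fintype.card_le_of_injective b hinj
  simp only [Fintype.card_fun, Fintype.card_fin] at this
  exact (Nat.pow_le_pow_iff_right hℓ.one_lt).mp this

end Groth.Agent.SplitTorLib
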