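import Groth.Agent.SplitTorLib.Basic
import Groth.Agent.GrpSchLib.HomSplitLocus
import Groth.Agent.S5427

/-!
# Points under `D(ψ)`, and `D(ψ)` is a covering for injective `ψ`
-/

set_option autoImplicit false
set_option linter.style.haveILetI false

universe u

open CategoryTheory CategoryTheory.Limits MonoidalCategory CartesianMonoidalCategory AlgebraicGeometry
open scoped MonObj
open Groth.Agent.DSPtsLib


namespace Groth.Agent.SplitTorLib

theorem pt_eq_one_iff {U : Scheme.{u}} {M : Type} [AddCommGroup M] {B : Type u} [CommRing B]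
    (j : Spec (CommRingCat.of B) ⟶ U) (f : CoordM.{u} M →+* B) :
    pt j f = 1 ↔ ∀ m, chr f m = 1 := by
  obtain ⟨g, hg, hgm⟩ := pt_pow j f 0
  rw [pow_zero] at hg
  rw [hg]
  refine ⟨fun h m => ?_, fun h => congrArg (pt j) (ringHom_ext' fun m => ?_)⟩
  · rw [pt_injective' j h, hgm, pow_zero]
  · show chr f m = chr g m
    rw [h, hgm, pow_zero]

theorem chr_pull {M N : Type} [AddCommGroup M] [AddCommGroup N] {B : Type u} [CommRing B] (ψ : M →+ N)
    (c : CoordM.{u} N →+* B) (m : Multiplicative M) :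
    chr (GrpSchLib.SubgroupFactor.pull ψ c) m = chr c (AddMonoidHom.toMultiplicative ψ m) :=
  GrpSchLib.SubgroupFactor.pull_single ψ c m

theorem pt_DSmap {U : Scheme.{u}} {M N : Type} [AddCommGroup M] [AddCommGroup N] {B : Type u} [CommRing B]
    (j : Spec (CommRingCat.of B) ⟶ U) (c : CoordM.{u} N →+* B) (ψ : M →+ N) :
    pt j c ≫ Red.DSmap U ψ = pt j (GrpSchLib.SubgroupFactor.pull ψ c) := by
  refine Over.OverMorphism.ext (pullback.hom_ext ?_ ?_)
  · rw [pt_fst, Over.comp_left, Category.assoc]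
    erw [pullback.lift_fst]
    rw [← Category.assoc, pt_fst]
    show Spec.map _ ≫ Spec.map _ = _
    rw [← Spec.map_comp]
    congr 1
  · exact (Over.w (pt j c ≫ Red.DSmap U ψ)).trans (pullback.lift_snd _ _ _).symm

theorem flat_surjective_qc_DSmap (U : Scheme.{u}) {M N : Type} [AddCommGroup M] [AddCommGroup N] (ψ : M →+ N)
    (hψ : Function.Injective ψ) :
    Flat (Red.DSmap U ψ).left ∧ Surjective (Red.DSmap U ψ).left ∧ QuasiCompact (Red.DSmap U ψ).left := by
  obtain ⟨h1, h2⟩ := GrpSchLib.HomSplitLocal.flat_surjective_of_injective (ULift.{u} ℤ) ψ hψ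
  have h3 : QuasiCompact (Spec.map (CommRingCat.ofHom
      (MonoidAlgebra.mapDomainRingHom (ULift.{u} ℤ) (AddMonoidHom.toMultiplicative ψ)))) := inferInstance
  exact ⟨MorphismProperty.overPullbackMap _ (Red.diagMap (ULift.{u} ℤ) ψ) h1,
    MorphismProperty.overPullbackMap _ (Red.diagMap (ULift.{u} ℤ) ψ) h2,
    MorphismProperty.overPullbackMap _ (Red.diagMap (ULift.{u} ℤ) ψ) h3⟩

theorem covers_DSmap (U : Scheme.{u}) {M N : Type} [AddCommGroup M] [AddCommGroup N] (ψ : M →+ N)
    (hψ : Function.Injective ψ) : FpqcDescLib.Covers (Red.DSmap U ψ).left := by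
  obtain ⟨h1, h2, h3⟩ := flat_surjective_qc_DSmap U ψ hψ
  exact FpqcDescLib.covers_of_isCovering (FpqcDescLib.isCovering_of_quasiCompact _)

theorem covers_tensorHom {U : Scheme.{u}} {A B : Over U} (p : A ⟶ B) [Flat p.left] [Surjective p.left]
    [QuasiCompact p.left] : FpqcDescLib.Covers (p ⊗ₘ p).left := by
  haveI : Flat (p ⊗ₘ p).left :=
    MorphismProperty.pullbackMap (P := @Flat) ‹_› ‹_› (Over.w p).symm (Over.w p).symm
  haveI : Surjective (p ⊗ₘ p).left :=
    MorphismProperty.pullbackMap (P := @Surjective) ‹_› ‹_› (Over.w p).symm (Over.w p).symm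
  haveI : QuasiCompact (p ⊗ₘ p).left :=
    MorphismProperty.pullbackMap (P := @QuasiCompact) ‹_› ‹_› (Over.w p).symm (Over.w p).symm
  exact FpqcDescLib.covers_of_isCovering (FpqcDescLib.isCovering_of_quasiCompact _)

end Groth.Agent.SplitTorLib
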