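import Groth.Agent.SplitTorLib.QuotBC

/-!
# A quotient of a split torus by a subgroup of multiplicative type is locally split
-/

set_option autoImplicit false
set_option linter.style.haveILetI false

universe u

open CategoryTheory CategoryTheory.Limits MonoidalCategory CartesianMonoidalCategory AlgebraicGeometry
open scoped MonObj
open Groth.Agent.DSPtsLib

namespace Groth.Agent.SplitTorLib

/-- The subgroup of characters is constant near every point. -/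
theorem exists_open_pieces {U : Scheme.{u}} {N : Type} [AddCommGroup N] {G : Over U} [GrpObj G]
    (φ : Red.DS U N ⟶ G) (hφ : HasPieces φ) (s : U) :
    ∃ (V : U.Opens) (L : AddSubgroup N) (P : Scheme.{u}) (f : P ⟶ V), s ∈ V ∧ FpqcDescLib.Covers f ∧
      ∀ z : P, ∃ (R : Type u) (_ : CommRing R) (j : Spec (CommRingCat.of R) ⟶ P),
        IsOpenImmersion j ∧ z ∈ Set.range j ∧ CutBy φ ((j ≫ f) ≫ V.ι) L := by
  obtain ⟨P, f, hopen, hsurj, hcov, hp⟩ := hφ
  choose R iR j hj hz L hL using hp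
  have hT : ∀ z q m, Triv φ m (f (j z q)) ↔ m ∈ L z := fun z q m => triv_iff φ (j z ≫ f) (hL z) q m
  have hrange : ∀ z y, y ∈ Set.range (j z) → ∀ m, Triv φ m (f y) ↔ Triv φ m (f z) := by
    rintro z _ ⟨q, rfl⟩ m
    obtain ⟨q₀, hq₀⟩ := hz z
    rw [hT, ← hT z q₀ m, hq₀]
  let E : Set U := {u | ∀ m, Triv φ m u ↔ Triv φ m s}
  have hE : IsOpen E := hopen E (by
    rw [isOpen_iff_forall_mem_open]
    refine fun y hy => ⟨_, fun x hx m => ?_, (j y).isOpenEmbedding.isOpen_range, hz y⟩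
    exact (hrange y x hx m).trans (hy m))
  let V : U.Opens := ⟨E, hE⟩
  obtain ⟨x₀, hx₀⟩ := f.surjective s
  let P' : P.Opens := f ⁻¹ᵁ V
  have hsub : ∀ z ∈ P', Set.range (j z) ⊆ Set.range P'.ι := by
    intro z hzP x hx
    rw [Scheme.Opens.range_ι]
    exact fun m => (hrange z x hx m).trans (hzP m)
  refine ⟨V, L x₀, (P' : Scheme.{u}), f ∣_ V, fun m => Iff.rfl,
    hcov.pullback V.ι _ P'.ι (isPullback_morphismRestrict f V), fun z => ?_⟩
  let z₀ : P := P'.ι z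
  have hz₀ : z₀ ∈ P' := z.2
  haveI : IsOpenImmersion (IsOpenImmersion.lift P'.ι (j z₀) (hsub z₀ hz₀) ≫ P'.ι) := by
    rw [IsOpenImmersion.lift_fac]; exact hj z₀
  refine ⟨R z₀, iR z₀, IsOpenImmersion.lift P'.ι (j z₀) (hsub z₀ hz₀), IsOpenImmersion.of_comp _ P'.ι, ?_, ?_⟩
  · obtain ⟨q, hq⟩ := hz z₀
    refine ⟨q, P'.ι.isOpenEmbedding.injective ?_⟩
    rw [← Scheme.Hom.comp_apply, IsOpenImmersion.lift_fac]
    exact hq
  · have e : (IsOpenImmersion.lift P'.ι (j z₀) (hsub z₀ hz₀) ≫ f ∣_ V) ≫ V.ι = j z₀ ≫ f := by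
      rw [Category.assoc, morphismRestrict_ι, IsOpenImmersion.lift_fac_assoc]
    rw [e]
    have hEq : L z₀ = L x₀ := by
      ext m
      obtain ⟨q, hq⟩ := hz z₀
      obtain ⟨q₀, hq₀⟩ := hz x₀
      rw [← hT z₀ q m, ← hT x₀ q₀ m, hq, hq₀, hx₀]
      exact hz₀ m
    exact hEq ▸ hL z₀

/-- A quotient of a split torus by a subgroup of multiplicative type is Zariski locally split. -/
theorem exists_nhd_split {U : Scheme.{u}} {T H Q : Over U} [GrpObj T] [GrpObj H] [GrpObj Q] {r : ℕ}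
    (hT : Red.IsSplitTorusWith (Fin r → ℤ) T) (i : H ⟶ T) (hih : IsMonHom i) (him : Mono i)
    (hH : SGA3x.IsMultTypeFT H) (q : T ⟶ Q) (hqh : IsMonHom q) (hq : RedSub.IsQuotient i q) (s : U) :
    ∃ V : U.Opens, s ∈ V ∧ ∃ r' : ℕ, Red.IsSplitTorusWith (Fin r' → ℤ) (Red.bc V.ι Q) := by
  obtain ⟨e⟩ := hT
  let ei : T ≅ Red.DS U (Fin r → ℤ) := (Grp.forget _).mapIso e
  haveI he : IsMonHom ei.hom := e.hom.hom.isMonHom_hom
  haveI he' : IsMonHom ei.inv := e.inv.hom.isMonHom_hom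
  haveI := hih; haveI := him; haveI := hqh
  have hq' := isQuotient_transport ei he i q hq
  obtain ⟨V, L, P, f, hsV, hcov, hp⟩ := exists_open_pieces (ei.inv ≫ q)
    (@exists_pieces_quot U r H Q _ _ (i ≫ ei.hom) inferInstance inferInstance hH (ei.inv ≫ q) inferInstance hq') s
  obtain ⟨d, hd⟩ := bc_DS_fst V.ι (Fin r → ℤ)
  let di : Red.bc V.ι (Red.DS U (Fin r → ℤ)) ≅ Red.DS (V : Scheme.{u}) (Fin r → ℤ) := (Grp.forget _).mapIso d
  haveI hdh : IsMonHom di.hom := d.hom.hom.isMonHom_hom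
  haveI hdh' : IsMonHom di.inv := d.inv.hom.isMonHom_hom
  have hq'' := isQuotient_transport di hdh _ _ (isQuotient_bc V.ι (i ≫ ei.hom) (ei.inv ≫ q) hq')
  have hqV : IsMonHom (di.inv ≫ (Over.pullback V.ι).map (ei.inv ≫ q)) := by
    haveI : IsMonHom (ei.inv ≫ q) := inferInstance
    infer_instance
  obtain ⟨r', inc, hinc, hk⟩ := exists_ker_eq_of_lattice (di.inv ≫ (Over.pullback V.ι).map (ei.inv ≫ q)) L f hcov
    fun z => by
      obtain ⟨R, iR, j, hj, hz, hc⟩ := hp z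
      exact ⟨R, iR, j, hj, hz, cutBy_bc V.ι (ei.inv ≫ q) d hd (j ≫ f) hc⟩
  exact ⟨V, hsV, r', (@isSplit_of_ker_eq _ r _ _ _ _ _ _ hqV hq'' r' inc hinc hk).2⟩

end Groth.Agent.SplitTorLib
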